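import Mathlib

/-!
Class sizes not divisible by the square of a prime: inheritance, and groups with a normal
`p`-complement.
-/

set_option autoImplicit false

namespace Cfsg.Agent.GenA.SquareFree

open Subgroup

variable {G : Type*} [Group G]

/-- Every element of order prime to `p` has class size not divisible by `p ^ 2`. -/
def RegSmall (p : ℕ) (G : Type*) [Group G] : Prop :=
  ∀ g : G, ¬ p ∣ orderOf g → ¬ p ^ 2 ∣ (centralizer ({g} : Set G)).index

/-- `G` has a normal subgroup of order prime to `p` and of `p`-power index. -/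
def NilP (p : ℕ) (G : Type*) [Group G] : Prop :=
  ∃ N : Subgroup G, N.Normal ∧ ¬ p ∣ Nat.card N ∧ ∃ k : ℕ, N.index = p ^ k

theorem mem_cent {g x : G} : x ∈ centralizer ({g} : Set G) ↔ x * g = g * x := by
  rw [mem_centralizer_iff]
  simp only [Set.mem_singleton_iff, forall_eq]
  exact eq_comm

theorem index_class_map {H : Type*} [Group H] {f : G →* H} (hf : Function.Surjective f) (g : G) :
    (centralizer ({f g} : Set H)).index ∣ (centralizer ({g} : Set G)).index := by
  refine (index_dvd_of_le ?_).trans (index_map_dvd _ hf)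
  rintro _ ⟨x, hx, rfl⟩
  rw [mem_cent, ← map_mul, ← map_mul, mem_cent.1 hx]

theorem index_class_subgroup [Finite G] (N : Subgroup G) [N.Normal] (x : N) :
    (centralizer ({x} : Set N)).index ∣ (centralizer ({(x : G)} : Set G)).index := by
  set C := centralizer ({(x : G)} : Set G)
  have h0 : centralizer ({x} : Set N) = C.subgroupOf N := by
    ext y
    rw [mem_cent, mem_subgroupOf, mem_cent, Subtype.ext_iff]
    rfl
  rw [h0, ← relIndex]
  have h1 : C.relIndex N * N.index = (C ⊓ N).index := by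
    rw [← inf_relIndex_right, relIndex_mul_index inf_le_right]
  have h2 : N.relIndex C * C.index = (C ⊓ N).index := by
    rw [← inf_relIndex_left, relIndex_mul_index inf_le_left]
  obtain ⟨t, ht⟩ := relIndex_dvd_index_of_normal N C
  have hpos : 0 < N.relIndex C := Nat.pos_of_ne_zero fun h =>
    index_ne_zero_of_finite (H := N) (by rw [ht, h, zero_mul])
  refine ⟨t, Nat.eq_of_mul_eq_mul_left hpos ?_⟩
  rw [h2, ← h1, ht]
  ring

theorem exists_parts [Finite G] (p : ℕ) [hp : Fact p.Prime] (g : G) :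
    ∃ a b : G, g = a * b ∧ a ∈ zpowers g ∧ b ∈ zpowers g ∧ Commute a b ∧
      (∃ i, orderOf a = p ^ i) ∧ ¬ p ∣ orderOf b := by
  obtain ⟨k, m, hm, hkm⟩ :=
    Nat.exists_eq_pow_mul_and_not_dvd (orderOf_pos g).ne' p hp.out.ne_one
  have hcop : (p ^ k).Coprime m := Nat.Coprime.pow_left _ (hp.out.coprime_iff_not_dvd.2 hm)
  obtain ⟨u, v, huv⟩ : ∃ u v : ℤ, u * (p ^ k : ℕ) + v * m = 1 :=
    Int.isCoprime_iff_nat_coprime.2 (by simpa using hcop)
  refine ⟨g ^ (v * m), g ^ (u * (p ^ k : ℕ)), ?_, ⟨_, rfl⟩, ⟨_, rfl⟩,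
    Commute.zpow_zpow (Commute.refl g) _ _, ?_, ?_⟩
  · rw [← zpow_add, add_comm, huv, zpow_one]
  · have hord : orderOf (g ^ (v * m)) ∣ p ^ k := by
      refine orderOf_dvd_of_pow_eq_one ?_
      rw [← zpow_natCast, ← zpow_mul,
        show v * m * ((p ^ k : ℕ) : ℤ) = ((p ^ k * m : ℕ) : ℤ) * v by push_cast; ring,
        zpow_mul, zpow_natCast, ← hkm, pow_orderOf_eq_one, one_zpow]
    obtain ⟨i, -, hi⟩ := (Nat.dvd_prime_pow hp.out).1 hord
    exact ⟨i, hi⟩
  · have hord : orderOf (g ^ (u * (p ^ k : ℕ))) ∣ m := by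
      refine orderOf_dvd_of_pow_eq_one ?_
      rw [← zpow_natCast, ← zpow_mul,
        show u * ((p ^ k : ℕ) : ℤ) * (m : ℤ) = ((p ^ k * m : ℕ) : ℤ) * u by push_cast; ring,
        zpow_mul, zpow_natCast, ← hkm, pow_orderOf_eq_one, one_zpow]
    exact fun hd => hm (hd.trans hord)

/-- A lift of an element of order prime to `p` may be chosen of order prime to `p`. -/
theorem exists_reg_lift [Finite G] (p : ℕ) [hp : Fact p.Prime] {H : Type*} [Group H]
    {f : G →* H} (hf : Function.Surjective f) (y : H) (hy : ¬ p ∣ orderOf y) :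
    ∃ g : G, f g = y ∧ ¬ p ∣ orderOf g := by
  obtain ⟨g, rfl⟩ := hf y
  obtain ⟨a, b, hab, ha, -, -, ⟨i, hi⟩, hb⟩ := exists_parts p g
  refine ⟨b, ?_, hb⟩
  have h1 : orderOf (f a) ∣ p ^ i := hi ▸ orderOf_map_dvd f a
  have h2 : orderOf (f a) ∣ orderOf (f g) := by
    obtain ⟨j, rfl⟩ := ha
    exact orderOf_dvd_of_mem_zpowers ⟨j, (map_zpow f g j).symm⟩
  have h3 : Nat.Coprime (p ^ i) (orderOf (f g)) :=
    Nat.Coprime.pow_left _ (hp.out.coprime_iff_not_dvd.2 hy)
  have h4 : f a = 1 := orderOf_eq_one_iff.1 (Nat.eq_one_of_dvd_coprimes h3 h1 h2)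
  rw [show f g = f a * f b by rw [hab, map_mul], h4, one_mul]

theorem RegSmall.map [Finite G] {p : ℕ} [Fact p.Prime] (h : RegSmall p G) {H : Type*} [Group H]
    {f : G →* H} (hf : Function.Surjective f) : RegSmall p H := by
  intro y hy hd
  obtain ⟨g, rfl, hg⟩ := exists_reg_lift p hf y hy
  exact h g hg (hd.trans (index_class_map hf g))

theorem NilP.mem {p : ℕ} [hp : Fact p.Prime] {N : Subgroup G} (hN : N.Normal) {k : ℕ}
    (hk : N.index = p ^ k) {g : G} (hg : ¬ p ∣ orderOf g) : g ∈ N := by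
  rw [← QuotientGroup.eq_one_iff, ← orderOf_eq_one_iff]
  refine Nat.eq_one_of_dvd_coprimes (Nat.Coprime.pow_left k (hp.out.coprime_iff_not_dvd.2 hg))
    ?_ (orderOf_map_dvd (QuotientGroup.mk' N) g)
  rw [← hk, index]
  exact orderOf_dvd_natCard _

/-- A normal `p`-complement lifts through a central `p`-subgroup. -/
theorem NilP.of_central [Finite G] {p : ℕ} [hp : Fact p.Prime] (Z : Subgroup G) [Z.Normal]
    (hZ : Z ≤ center G) {i : ℕ} (hi : Nat.card Z = p ^ i) (h : NilP p (G ⧸ Z)) : NilP p G := by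
  obtain ⟨Kb, hKb, hKc, k, hk⟩ := h
  haveI := hKb
  let K := Kb.comap (QuotientGroup.mk' Z)
  have hZK : Z ≤ K := fun z hz => by
    show QuotientGroup.mk' Z z ∈ Kb
    rw [show QuotientGroup.mk' Z z = 1 from (QuotientGroup.eq_one_iff z).2 hz]
    exact Kb.one_mem
  have hKi : K.index = Kb.index := index_comap_of_surjective _ (QuotientGroup.mk'_surjective Z)
  have hKcard : Nat.card K = Nat.card Kb * Nat.card Z := by
    have e1 := K.index_mul_card
    have e2 := Kb.index_mul_card
    have e3 := Z.index_mul_card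
    rw [hKi] at e1
    refine Nat.eq_of_mul_eq_mul_left (Nat.pos_of_ne_zero (index_ne_zero_of_finite (H := Kb))) ?_
    rw [e1, ← e3, ← mul_assoc, e2]
    rfl
  have hcop : (Nat.card (Z.subgroupOf K)).Coprime (Z.subgroupOf K).index := by
    have e : Nat.card (Z.subgroupOf K) = Nat.card Z :=
      Nat.card_congr (subgroupOfEquivOfLe hZK).toEquiv
    have e' := (Z.subgroupOf K).index_mul_card
    rw [e, hKcard] at e'
    rw [e, Nat.eq_of_mul_eq_mul_right Nat.card_pos e', hi]
    exact Nat.Coprime.pow_left _ (hp.out.coprime_iff_not_dvd.2 hKc)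
  obtain ⟨C, hC⟩ := exists_right_complement'_of_coprime hcop
  have hCc : Nat.card C = Nat.card Kb := by
    have e := hC.card_mul
    rw [Nat.card_congr (subgroupOfEquivOfLe hZK).toEquiv, hKcard, mul_comm (Nat.card Kb)] at e
    exact Nat.eq_of_mul_eq_mul_left Nat.card_pos e
  have hchar : ∀ x : K, x ∈ C ↔ ¬ p ∣ orderOf x := by
    refine fun x => ⟨fun hx hd => hKc (hCc ▸ hd.trans ?_), fun hx => ?_⟩
    · have := orderOf_dvd_natCard (⟨x, hx⟩ : C)
      rwa [← Subgroup.orderOf_coe] at this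
    · obtain ⟨⟨z, c⟩, hzc⟩ := hC.2 x
      simp only at hzc
      have hzc' : Commute (z : K) (c : K) := by
        apply Subtype.ext
        exact (mem_center_iff.1 (hZ (mem_subgroupOf.1 z.2)) _).symm
      have hxz : Commute x (c : K)⁻¹ := by
        rw [← hzc]
        exact ((hzc'.mul_left (Commute.refl (c : K)))).inv_right
      have hz : (z : K) = x * (c : K)⁻¹ := by rw [← hzc, mul_inv_cancel_right]
      have h1 : orderOf (z : K) ∣ p ^ i := by
        rw [← Subgroup.orderOf_coe, ← hi]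
        have := orderOf_dvd_natCard (⟨(z : K), mem_subgroupOf.1 z.2⟩ : Z)
        rwa [← Subgroup.orderOf_coe] at this
      have hcN : ¬ p ∣ orderOf ((c : K)⁻¹) := by
        rw [orderOf_inv]
        intro hd
        refine hKc (hCc ▸ hd.trans ?_)
        rw [Subgroup.orderOf_coe]
        exact orderOf_dvd_natCard c
      have h2 : ¬ p ∣ orderOf (z : K) := fun hd => by
        rcases (hp.out.dvd_mul.1 ((hd.trans (hz ▸ hxz.orderOf_mul_dvd_lcm)).trans
          (Nat.lcm_dvd_mul _ _))) with h3 | h3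
        exacts [hx h3, hcN h3]
      have hz1 : (z : K) = 1 := orderOf_eq_one_iff.1 (Nat.eq_one_of_dvd_coprimes
        (Nat.Coprime.pow_left i (hp.out.coprime_iff_not_dvd.2 h2)) h1 dvd_rfl)
      rw [← hzc, hz1, one_mul]
      exact c.2
  refine ⟨C.map K.subtype, ⟨?_⟩, ?_, k + i, ?_⟩
  · rintro _ ⟨x, hx, rfl⟩ g
    haveI : K.Normal := hKb.comap _
    have hmem : g * (x : G) * g⁻¹ ∈ K := (inferInstance : K.Normal).conj_mem _ x.2 g
    refine ⟨⟨_, hmem⟩, (hchar _).2 fun hd => (hchar x).1 hx ?_, rfl⟩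
    rw [← Subgroup.orderOf_coe] at hd ⊢
    convert hd using 1
    exact (MulEquiv.orderOf_eq (MulAut.conj g) (x : G)).symm
  · rw [card_map_of_injective K.subtype_injective, hCc]
    exact hKc
  · have e1 := (C.map K.subtype).index_mul_card
    have e2 := K.index_mul_card
    rw [card_map_of_injective K.subtype_injective, hCc] at e1
    rw [hKi, hk, hKcard, hi] at e2
    refine Nat.eq_of_mul_eq_mul_right (Nat.card_pos (α := Kb)) ?_
    rw [e1, ← e2, pow_add]
    ring

end Cfsg.Agent.GenA.SquareFree
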