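import Cfsg.Agent.GenA.SquareFree.Basic

/-!
An abelian Sylow subgroup for the smallest prime `p`, all classes of `p'`-elements of size not
divisible by `p ^ 2`: then there is a normal `p`-complement.

If not, every `p`-singular centraliser has a complement by induction, so the automizer `W` of the
Sylow subgroup `S` acts freely on `S ∖ 1` and on the subgroups of index `p` of `S`.  The elements
of order prime to `p` are covered by the centralisers of these hyperplanes and the others by the
sections of the elements of `S ∖ 1`; each of these covers has at most `|G : S|` elements and each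
element is covered `|W|` times, whence `|W| < 2`.
-/

set_option autoImplicit false

namespace Cfsg.Agent.GenA.SquareFree

open Subgroup

universe u

variable {G : Type u} [Group G]

/-- Conjugates of a small invariant subset of a subgroup. -/
theorem ncard_conj_le [Finite G] (S H : Subgroup G) (hS : S ≤ H) (Z : Set G) (hZ : Z ⊆ H)
    (hinv : ∀ h ∈ H, ∀ z ∈ Z, h * z * h⁻¹ ∈ Z) (hc : Z.ncard * Nat.card S ≤ Nat.card H) :
    {g : G | ∃ c, c * g * c⁻¹ ∈ Z}.ncard ≤ S.index := by
  have hsub : {g : G | ∃ c, c * g * c⁻¹ ∈ Z} ⊆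
      Set.range fun w : (G ⧸ H) × Z => w.1.out * (w.2 : G) * w.1.out⁻¹ := by
    rintro g ⟨c, hcz⟩
    obtain ⟨h, hh⟩ := QuotientGroup.mk_out_eq_mul H c⁻¹
    refine ⟨((c⁻¹ : G), ⟨_, hinv _ (H.inv_mem h.2) _ hcz⟩), ?_⟩
    simp only [hh]
    group
  have h1 : {g : G | ∃ c, c * g * c⁻¹ ∈ Z}.ncard ≤ H.index * Z.ncard := by
    refine (Set.ncard_le_ncard hsub (Set.toFinite _)).trans ?_
    rw [← Nat.card_coe_set_eq, ← Nat.card_coe_set_eq, index, ← Nat.card_prod]
    exact Finite.card_range_le _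
  refine Nat.le_of_mul_le_mul_right ?_ (Nat.card_pos (α := S))
  rw [S.index_mul_card, ← H.index_mul_card]
  calc _ ≤ H.index * Z.ncard * Nat.card S := Nat.mul_le_mul_right _ h1
    _ ≤ _ := by rw [mul_assoc]; exact Nat.mul_le_mul_left _ hc

/-- If all `r`-elements, `r ≠ p`, of `H` lie in `C` and `p` does not divide the index, `H ≤ C`. -/
theorem le_of_prime_power_elements [Finite G] {p : ℕ} {H C : Subgroup G}
    (hp : ¬ p ∣ C.relIndex H)
    (h : ∀ r : ℕ, r.Prime → r ≠ p → ∀ x ∈ H, (∃ i, orderOf x = r ^ i) → x ∈ C) : H ≤ C := by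
  rw [← relIndex_eq_one]
  by_contra hne
  obtain ⟨r, hr, hd⟩ := Nat.exists_prime_and_dvd hne
  haveI : Fact r.Prime := ⟨hr⟩
  have hrp : r ≠ p := fun he => hp (he ▸ hd)
  obtain ⟨R⟩ : Nonempty (Sylow r H) := inferInstance
  have hRC : (R : Subgroup H) ≤ C.subgroupOf H := by
    intro x hx
    obtain ⟨i, hi⟩ := IsPGroup.iff_orderOf.1 R.2 ⟨x, hx⟩
    refine h r hr hrp x x.2 ⟨i, ?_⟩
    rwa [← Subgroup.orderOf_coe, ← Subgroup.orderOf_coe] at hi
  exact R.not_dvd_index (hd.trans (index_dvd_of_le hRC))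

theorem not_dvd_relIndex {p : ℕ} [Fact p.Prime] [Finite G] (S : Sylow p G) {H C : Subgroup G}
    (h1 : (S : Subgroup G) ≤ C ⊓ H) : ¬ p ∣ C.relIndex H := by
  intro hd
  refine S.not_dvd_index (hd.trans ?_)
  rw [← inf_relIndex_right]
  exact ((dvd_mul_right _ _).trans (dvd_of_eq (relIndex_mul_index inf_le_right))).trans
    (index_dvd_of_le h1)

/-- The number of subgroups of index `p` of a finite abelian `p`-group is at most its order. -/
theorem card_hyperplanes_le [Finite G] {p : ℕ} [hp : Fact p.Prime] (S : Subgroup G)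
    [IsMulCommutative S] :
    Nat.card {M : Subgroup G // M ≤ S ∧ Nat.card M * p = Nat.card S} ≤ Nat.card S := by
  classical
  letI : CommGroup S := { (inferInstance : Group S) with
    mul_comm := fun a b => (inferInstance : IsMulCommutative S).is_comm.comm a b }
  refine le_of_le_of_eq ?_ (CommGroup.card_monoidHom_of_hasEnoughRootsOfUnity S ℂ)
  have hex : ∀ M : {M : Subgroup G // M ≤ S ∧ Nat.card M * p = Nat.card S},
      ∃ f : S →* ℂˣ, f.ker = M.1.subgroupOf S := by
    rintro ⟨M, hMS, hM⟩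
    have e : Nat.card (M.subgroupOf S) = Nat.card M :=
      Nat.card_congr (subgroupOfEquivOfLe hMS).toEquiv
    have hidx : (M.subgroupOf S).index = p := by
      have h1 := (M.subgroupOf S).index_mul_card
      rw [e, ← hM, mul_comm (Nat.card M)] at h1
      exact Nat.eq_of_mul_eq_mul_right Nat.card_pos h1
    haveI : Nontrivial (S ⧸ M.subgroupOf S) := by
      rw [← Finite.one_lt_card_iff_nontrivial, ← index, hidx]
      exact hp.out.one_lt
    obtain ⟨x, hx⟩ := exists_ne (1 : S ⧸ M.subgroupOf S)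
    obtain ⟨φ, hφ⟩ := CommGroup.exists_apply_ne_one_of_hasEnoughRootsOfUnity
      (S ⧸ M.subgroupOf S) ℂ hx
    refine ⟨φ.comp (QuotientGroup.mk' _), le_antisymm ?_ fun s hs => ?_⟩
    · have hle : M.subgroupOf S ≤ (φ.comp (QuotientGroup.mk' (M.subgroupOf S))).ker :=
        fun s hs => by
          rw [MonoidHom.mem_ker, MonoidHom.comp_apply, QuotientGroup.mk'_apply,
            (QuotientGroup.eq_one_iff s).2 hs, map_one]
      have hd := hidx ▸ index_dvd_of_le hle
      rcases hp.out.eq_one_or_self_of_dvd _ hd with h1 | h1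
      · exfalso
        obtain ⟨s, rfl⟩ := QuotientGroup.mk_surjective x
        refine hφ ?_
        have : s ∈ (φ.comp (QuotientGroup.mk' (M.subgroupOf S))).ker := by
          rw [index_eq_one.1 h1]; exact mem_top s
        exact this
      · refine (eq_of_le_of_card_ge hle ?_).ge
        have e1 := (φ.comp (QuotientGroup.mk' (M.subgroupOf S))).ker.index_mul_card
        have e2 := (M.subgroupOf S).index_mul_card
        rw [h1] at e1; rw [hidx] at e2
        exact (Nat.eq_of_mul_eq_mul_left hp.out.pos (e1.trans e2.symm)).le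
    · rw [MonoidHom.mem_ker, MonoidHom.comp_apply, QuotientGroup.mk'_apply,
        (QuotientGroup.eq_one_iff s).2 hs, map_one]
  choose f hf using hex
  refine Nat.card_le_card_of_injective f fun M M' h => Subtype.ext ?_
  have h1 : M.1.subgroupOf S = M'.1.subgroupOf S := by rw [← hf M, ← hf M', h]
  rw [subgroupOf_inj, inf_eq_left.2 M.2.1, inf_eq_left.2 M'.2.1] at h1
  exact h1

theorem nilP_of_abelian {p : ℕ} [hp : Fact p.Prime] (G : Type u) [Group G] [Finite G]
    (hmin : ∀ r : ℕ, r.Prime → r ∣ Nat.card G → p ≤ r) (P : Sylow p G)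
    (hP : ∀ a ∈ (P : Subgroup G), ∀ b ∈ (P : Subgroup G), a * b = b * a) (h : RegSmall p G) :
    NilP p G := by
  induction hn : Nat.card G using Nat.strong_induction_on generalizing G with
  | _ n ih =>
  classical
  haveI := Fintype.ofFinite G
  set S := (P : Subgroup G) with hS
  haveI hScomm : IsMulCommutative S := ⟨⟨fun a b => Subtype.ext (hP a a.2 b b.2)⟩⟩
  obtain ⟨k, hk⟩ := IsPGroup.iff_card.1 P.2
  by_cases hNC : normalizer (S : Set G) ≤ centralizer (S : Set G)
  · refine ⟨_, inferInstance, MonoidHom.not_dvd_card_ker_transferSylow P hNC, k, ?_⟩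
    rw [(MonoidHom.ker_transferSylow_isComplement' P hNC).symm.index_eq_card, hk]
  set N₀ := normalizer (S : Set G) with hN₀
  set C₀ := centralizer (S : Set G) with hC₀
  have hSN : S ≤ N₀ := le_normalizer
  have hSC : S ≤ C₀ := fun a ha => mem_centralizer_iff.2 fun b hb => hP b hb a ha
  have hpS : ∀ a ∈ S, ∃ i, orderOf a = p ^ i := fun a ha => by
    obtain ⟨i, hi⟩ := IsPGroup.iff_orderOf.1 P.2 ⟨a, ha⟩
    exact ⟨i, by rwa [← Subgroup.orderOf_coe] at hi⟩
  by_cases hcent : ∃ z ∈ S, z ≠ 1 ∧ z ∈ center G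
  · obtain ⟨z, hzS, hz1, hzc⟩ := hcent
    have hZc : zpowers z ≤ center G := zpowers_le.2 hzc
    haveI : (zpowers z).Normal :=
      ⟨fun a ha g => by rw [mem_center_iff.1 (hZc ha) g, mul_inv_cancel_right]; exact ha⟩
    obtain ⟨i, hi⟩ := hpS z hzS
    refine NilP.of_central (zpowers z) hZc ((Nat.card_zpowers z).trans hi) ?_
    refine ih _ ?_ (G ⧸ zpowers z) (fun r hr hd => hmin r hr (hd.trans (card_quotient_dvd_card _)))
      (P.mapSurjective (QuotientGroup.mk'_surjective (zpowers z))) ?_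
      (h.map (QuotientGroup.mk'_surjective _)) rfl
    · subst hn
      rw [(zpowers z).card_eq_card_quotient_mul_card_subgroup]
      refine lt_mul_of_one_lt_right Nat.card_pos ?_
      rw [Nat.card_zpowers]
      exact Nat.lt_of_le_of_ne (orderOf_pos z) fun he => hz1 (orderOf_eq_one_iff.1 he.symm)
    · rintro _ ⟨a, ha, rfl⟩ _ ⟨b, hb, rfl⟩
      rw [← map_mul, ← map_mul, hP a ha b hb]
  push Not at hcent
  -- complements in the centralisers of elements of `S`
  have hK : ∀ z ∈ S, z ≠ 1 → NilP p (centralizer ({z} : Set G)) := by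
    intro z hz hz1
    set H := centralizer ({z} : Set G) with hH
    have hSH : S ≤ H := fun a ha => mem_cent.2 (hP a ha z hz)
    have hlt : Nat.card H < Nat.card G := by
      refine lt_of_le_of_ne (Finite.card_subtype_le _) fun he => ?_
      refine hcent z hz hz1 (mem_center_iff.2 fun g => ?_)
      exact mem_cent.1 ((eq_top_of_card_eq H he) ▸ mem_top g : g ∈ H)
    refine ih _ (hn ▸ hlt) H (fun r hr hd => hmin r hr (hd.trans (card_subgroup_dvd_card H)))
      (P.subtype hSH) (fun a ha b hb => ?_) (fun v hv hd => ?_) rfl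
    · rw [Sylow.coe_subtype, mem_subgroupOf] at ha hb
      exact Subtype.ext (hP _ ha _ hb)
    rw [← Subgroup.orderOf_coe] at hv
    set Cv := centralizer ({(v : G)} : Set G) with hCv
    have hzCv : z ∈ Cv := mem_cent.2 (mem_cent.1 v.2).symm
    obtain ⟨l, hl⟩ := hpS z hz
    obtain ⟨T, hT⟩ := (IsPGroup.of_card (p := p) (n := l)
      (show Nat.card (zpowers (⟨z, hzCv⟩ : Cv)) = p ^ l by
        rw [Nat.card_zpowers, ← Subgroup.orderOf_coe]; exact hl)).exists_le_sylow
    obtain ⟨Q, hQ⟩ := (T.2.map Cv.subtype).exists_le_sylow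
    obtain ⟨c, hc⟩ := MulAction.exists_smul_eq G P Q
    have hTz : ∀ t ∈ (T : Subgroup Cv), (t : G) * z = z * t := by
      intro t ht
      have hcomm : ∀ a ∈ (Q : Subgroup G), ∀ b ∈ (Q : Subgroup G), a * b = b * a := by
        rw [← hc, Sylow.coe_subgroup_smul]
        rintro _ ⟨a, ha, rfl⟩ _ ⟨b, hb, rfl⟩
        show MulAut.conj c a * MulAut.conj c b = MulAut.conj c b * MulAut.conj c a
        rw [← map_mul, ← map_mul, hP a ha b hb]
      exact hcomm _ (hQ ⟨t, ht, rfl⟩) _ (hQ ⟨⟨z, hzCv⟩, hT (mem_zpowers _), rfl⟩)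
    set D := Cv ⊓ H with hD
    have hTD : Nat.card (T : Subgroup Cv) ∣ Nat.card D := by
      rw [← card_map_of_injective Cv.subtype_injective (K := (T : Subgroup Cv))]
      exact card_dvd_of_le (by rintro _ ⟨t, ht, rfl⟩; exact ⟨t.2, mem_cent.2 (hTz t ht)⟩)
    have hDC : (centralizer ({v} : Set H)) = D.subgroupOf H := by
      ext w
      rw [mem_cent, mem_subgroupOf, hD, mem_inf, hCv, mem_cent, Subtype.ext_iff]
      exact ⟨fun e => ⟨e, w.2⟩, fun e => e.1⟩
    rw [hDC, ← relIndex] at hd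
    -- compare the `p`-parts
    have e1 := (Cv).index_mul_card
    have e2 : D.relIndex H * H.index * Nat.card D = Nat.card G := by
      rw [relIndex_mul_index inf_le_right, index_mul_card]
    have hpi : ¬ p ∣ H.index := fun hh => P.not_dvd_index (hh.trans (index_dvd_of_le hSH))
    have hT' : ¬ p ∣ (T : Subgroup Cv).index := T.not_dvd_index
    obtain ⟨d, hd'⟩ := hTD
    have e3 := (T : Subgroup Cv).index_mul_card
    refine h (v : G) hv ?_
    obtain ⟨e, he⟩ := hd
    have hmul : p ^ 2 * (e * H.index * d) = Cv.index * (T : Subgroup Cv).index := by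
      refine Nat.eq_of_mul_eq_mul_right (Nat.card_pos (α := (T : Subgroup Cv))) ?_
      rw [mul_assoc Cv.index, e3, e1, ← e2, he, hd']
      ring
    exact (Nat.Coprime.dvd_of_dvd_mul_right (Nat.Coprime.pow_left 2
      (hp.out.coprime_iff_not_dvd.2 hT')) ⟨_, hmul.symm⟩)
  -- `N₀` and `C₀`
  have hrel : ∀ H : Subgroup G, S ≤ H → ¬ p ∣ C₀.relIndex H := fun H hH =>
    not_dvd_relIndex P (le_inf hSC hH)
  have hfix : ∀ z ∈ S, z ≠ 1 → N₀ ⊓ centralizer ({z} : Set G) ≤ C₀ := by
    intro z hz hz1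
    have hSH : S ≤ centralizer ({z} : Set G) := fun a ha => mem_cent.2 (hP a ha z hz)
    refine le_of_prime_power_elements (hrel _ (le_inf hSN hSH)) fun r hr hrp x hx ⟨i, hi⟩ => ?_
    obtain ⟨K, hKn, hKc, j, hKi⟩ := hK z hz hz1
    have hreg : ∀ w : centralizer ({z} : Set G), (w : G) = x → ¬ p ∣ orderOf w := by
      intro w hw hd
      rw [← Subgroup.orderOf_coe, hw, hi] at hd
      exact hrp ((Nat.prime_dvd_prime_iff_eq hp.out hr).1 (hp.out.dvd_of_dvd_pow hd)).symm
    have hxK := NilP.mem hKn hKi (hreg ⟨x, hx.2⟩ rfl)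
    refine mem_centralizer_iff.2 fun s hs => ?_
    let x' : centralizer ({z} : Set G) := ⟨x, hx.2⟩
    let s' : centralizer ({z} : Set G) := ⟨s, hSH hs⟩
    have h1 : x' * (s' * x'⁻¹ * s'⁻¹) ∈ K :=
      K.mul_mem hxK (hKn.conj_mem _ (K.inv_mem hxK) s')
    have h2 : x * s * x⁻¹ * s⁻¹ ∈ S :=
      S.mul_mem ((mem_normalizer_iff.1 hx.1 s).1 hs) (S.inv_mem hs)
    obtain ⟨l, hl⟩ := hpS _ h2
    have h3 : orderOf (x * s * x⁻¹ * s⁻¹) ∣ Nat.card K := by
      have e : x * s * x⁻¹ * s⁻¹ = ((x' * (s' * x'⁻¹ * s'⁻¹) : centralizer ({z} : Set G)) : G) := by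
        simp only [x', s', Subgroup.coe_mul, InvMemClass.coe_inv, mul_assoc]
      rw [e, Subgroup.orderOf_coe]
      have := orderOf_dvd_natCard (⟨_, h1⟩ : K)
      rwa [← Subgroup.orderOf_coe] at this
    have h4 : x * s * x⁻¹ * s⁻¹ = 1 := orderOf_eq_one_iff.1 (Nat.eq_one_of_dvd_coprimes
      (Nat.Coprime.pow_left l (hp.out.coprime_iff_not_dvd.2 hKc)) (dvd_of_eq hl) h3)
    calc s * x = 1 * (s * x) := (one_mul _).symm
      _ = x * s := by rw [← h4]; group
  have hSk : Nat.card S = p ^ k := hk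
  have hstab : ∀ M : Subgroup G, M ≤ S → Nat.card M * p = Nat.card S →
      N₀ ⊓ normalizer (M : Set G) ≤ C₀ := by
    intro M hMS hM
    have hSM : S ≤ normalizer (M : Set G) := fun a ha => mem_normalizer_iff.2 fun w => by
      constructor
      · intro hw
        rw [hP a ha w (hMS hw), mul_inv_cancel_right]; exact hw
      · intro hw
        have h1 : a⁻¹ * (a * w * a⁻¹) = (a * w * a⁻¹) * a⁻¹ := hP _ (S.inv_mem ha) _ (hMS hw)
        have : w = a * w * a⁻¹ := by
          calc w = a⁻¹ * (a * w * a⁻¹) * a := by group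
            _ = a * w * a⁻¹ := by rw [h1]; group
        rwa [← this] at hw
    refine le_of_prime_power_elements (hrel _ (le_inf hSN hSM)) fun r hr hrp x hx ⟨i, hi⟩ => ?_
    by_cases hi0 : i = 0
    · rw [hi0, pow_zero, orderOf_eq_one_iff] at hi
      exact hi ▸ C₀.one_mem
    have hrlt : p < r := lt_of_le_of_ne (hmin r hr ((dvd_pow_self r hi0).trans
      (hi ▸ orderOf_dvd_natCard x))) (Ne.symm hrp)
    haveI : Fact r.Prime := ⟨hr⟩
    let X : Type _ := {s : G // s ∈ S ∧ s ∉ M}
    have hmv : ∀ y : zpowers x, ∀ s : X, (y : G) * s * (y : G)⁻¹ ∈ S ∧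
        (y : G) * s * (y : G)⁻¹ ∉ M := by
      intro y s
      have hy : (y : G) ∈ N₀ ⊓ normalizer (M : Set G) := zpowers_le.2 hx y.2
      exact ⟨(mem_normalizer_iff.1 hy.1 s.1).1 s.2.1,
        fun h' => s.2.2 ((mem_normalizer_iff.1 hy.2 s.1).2 h')⟩
    letI : MulAction (zpowers x) X :=
      { smul := fun y s => ⟨_, hmv y s⟩
        one_smul := fun s => Subtype.ext (show (1 : G) * s * (1 : G)⁻¹ = s by simp)
        mul_smul := fun a b s => Subtype.ext (show ((a : G) * b) * s * ((a : G) * b)⁻¹ =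
          (a : G) * ((b : G) * s * (b : G)⁻¹) * (a : G)⁻¹ by group) }
    have hpg : IsPGroup r (zpowers x) := IsPGroup.of_card ((Nat.card_zpowers x).trans hi)
    have hXc : Nat.card X = Nat.card S - Nat.card M := by
      have e1 : Nat.card X = ((S : Set G) \ M).ncard := by
        rw [← Nat.card_coe_set_eq]; rfl
      rw [e1, Set.ncard_sdiff hMS, ← Nat.card_coe_set_eq, ← Nat.card_coe_set_eq]
      rfl
    have hMpos : 0 < Nat.card M := Nat.card_pos
    have hnd : ¬ r ∣ Nat.card X := by
      rw [hXc, ← hM, ← Nat.mul_sub_one]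
      intro hd
      rcases hr.dvd_mul.1 hd with h1 | h1
      · have h2 : r ∣ p ^ k := hSk ▸ h1.trans ⟨p, hM.symm⟩
        exact hrp ((Nat.prime_dvd_prime_iff_eq hr hp.out).1 (hr.dvd_of_dvd_pow h2))
      · have := Nat.le_of_dvd (by have := hp.out.two_le; omega) h1
        omega
    obtain ⟨s, hs⟩ := hpg.nonempty_fixed_point_of_prime_not_dvd_card X hnd
    have hs1 : (s : G) ≠ 1 := fun he => s.2.2 (he ▸ M.one_mem)
    refine hfix s s.2.1 hs1 ⟨hx.1, mem_cent.2 ?_⟩
    have h1 : x * (s : G) * x⁻¹ = s := congrArg Subtype.val (hs ⟨x, mem_zpowers x⟩)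
    calc x * (s : G) = x * s * x⁻¹ * x := by group
      _ = s * x := by rw [h1]
  -- the count
  set m := C₀.relIndex N₀ with hmdef
  have hm2 : 2 ≤ m := by
    rcases Nat.lt_or_ge m 2 with hlt | hge
    · have hm0 : m ≠ 0 := fun he => hrel N₀ hSN (by rw [← hmdef, he]; exact dvd_zero p)
      exact absurd (relIndex_eq_one.1 (show C₀.relIndex N₀ = 1 by omega)) hNC
    · exact hge
  have hbot : ∀ M : Subgroup G, M ≤ S → Nat.card M * p = Nat.card S → M ≠ ⊥ := by
    rintro M hMS hM rfl
    refine hNC (le_trans (le_inf le_rfl fun a _ => ?_) (hstab ⊥ hMS hM))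
    rw [mem_normalizer_iff]
    intro w
    rw [mem_bot, mem_bot, conj_eq_one_iff]
  -- many conjugates
  have hfree : ∀ {ι : Type u} [Fintype ι] (f : N₀ → ι) (T : Finset ι),
      (∀ a, f a ∈ T) → (∀ a b : N₀, f a = f b → (a : G)⁻¹ * b ∈ C₀) → m ≤ T.card := by
    intro ι _ f T hfT hf
    have hq : Nat.card (N₀ ⧸ C₀.subgroupOf N₀) = m := rfl
    rw [← hq, ← Nat.card_coe_set_eq (T : Set ι) |>.trans (Set.ncard_coe_finset T)]
    refine Nat.card_le_card_of_injective (fun q => (⟨f q.out, hfT _⟩ : (T : Set ι))) fun a b hab => ?_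
    rw [← QuotientGroup.out_eq' a, ← QuotientGroup.out_eq' b]
    exact QuotientGroup.eq.2 (mem_subgroupOf.2 (hf _ _ (congrArg Subtype.val hab)))
  let Hyp := {M : Subgroup G // M ≤ S ∧ Nat.card M * p = Nat.card S}
  haveI : Fintype Hyp := Fintype.ofFinite _
  let U := {z : G // z ∈ S ∧ z ≠ 1}
  haveI : Fintype U := Fintype.ofFinite _
  let ZM : Subgroup G → Set G := fun M => {g | g ∈ centralizer (M : Set G) ∧ ¬ p ∣ orderOf g}
  let ZU : G → Set G := fun z => {g | g ∈ centralizer ({z} : Set G) ∧ ¬ p ∣ orderOf (g * z⁻¹)}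
  have hcov : ∀ z ∈ S, z ≠ 1 → ∀ H : Subgroup G, S ≤ H → H ≤ centralizer ({z} : Set G) →
      {g | g ∈ H ∧ ¬ p ∣ orderOf g}.ncard * Nat.card S ≤ Nat.card H := by
    intro z hz hz1 H hSH hHz
    obtain ⟨K, hKn, hKc, j, hKi⟩ := hK z hz hz1
    set D := H ⊓ K.map (centralizer ({z} : Set G)).subtype with hD
    have hsub : {g | g ∈ H ∧ ¬ p ∣ orderOf g} ⊆ (D : Set G) := by
      rintro g ⟨hg, hgp⟩
      refine ⟨hg, ⟨⟨g, hHz hg⟩, NilP.mem hKn hKi ?_, rfl⟩⟩
      rwa [← Subgroup.orderOf_coe]
    have hDp : ¬ p ∣ Nat.card D := fun hd => hKc (by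
      rw [← card_map_of_injective (centralizer ({z} : Set G)).subtype_injective]
      exact hd.trans (card_dvd_of_le inf_le_right))
    have hmul : Nat.card D * Nat.card S ∣ Nat.card H :=
      Nat.Coprime.mul_dvd_of_dvd_of_dvd (by
        rw [hk]; exact (Nat.Coprime.pow_left _ (hp.out.coprime_iff_not_dvd.2 hDp)).symm)
        (card_dvd_of_le inf_le_left) (card_dvd_of_le hSH)
    refine le_trans (Nat.mul_le_mul_right _ ?_) (Nat.le_of_dvd Nat.card_pos hmul)
    rw [← SetLike.coe_sort_coe, Nat.card_coe_set_eq]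
    exact Set.ncard_le_ncard hsub (Set.toFinite _)
  have hregconj : ∀ (a g : G), ¬ p ∣ orderOf g → ¬ p ∣ orderOf (a * g * a⁻¹) := fun a g hg => by
    rwa [show a * g * a⁻¹ = MulAut.conj a g from rfl, MulEquiv.orderOf_eq]
  let A : Finset G := Finset.univ.filter fun g => ¬ p ∣ orderOf g
  let B : Finset G := Finset.univ.filter fun g => p ∣ orderOf g
  have hA : A.card * m ≤ Fintype.card Hyp * S.index := by
    rw [← Finset.card_univ]
    refine Finset.card_mul_le_card_mul (fun g (M : Hyp) => ∃ c, c * g * c⁻¹ ∈ ZM M.1)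
      (fun g hg => ?_) fun M _ => ?_
    · have hgp : ¬ p ∣ orderOf g := (Finset.mem_filter.1 hg).2
      obtain ⟨T⟩ : Nonempty (Sylow p (centralizer ({g} : Set G))) := inferInstance
      obtain ⟨Q, hQ⟩ := (T.2.map (centralizer ({g} : Set G)).subtype).exists_le_sylow
      obtain ⟨c, hc⟩ := MulAction.exists_smul_eq G Q P
      set T' := ((T : Subgroup (centralizer ({g} : Set G))).map
        (centralizer ({g} : Set G)).subtype).map (MulAut.conj c).toMonoidHom with hT'
      have hT'S : T' ≤ S := by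
        rw [hS, ← hc]
        rintro _ ⟨t, ht, rfl⟩
        rw [Sylow.coe_subgroup_smul]
        exact ⟨t, hQ ht, rfl⟩
      obtain ⟨t, ht⟩ := IsPGroup.iff_card.1 T.2
      have hT'c : Nat.card T' = p ^ t := by
        rw [hT', card_map_of_injective (MulAut.conj c).injective,
          card_map_of_injective (centralizer ({g} : Set G)).subtype_injective, ht]
      have htk : k ≤ t + 1 := by
        by_contra hlt
        push Not at hlt
        refine h g hgp ?_
        have e1 := (centralizer ({g} : Set G)).index_mul_card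
        have e3 := (T : Subgroup (centralizer ({g} : Set G))).index_mul_card
        have e4 := S.index_mul_card
        rw [ht] at e3
        have hmul : p ^ 2 * (p ^ (k - t - 2) * S.index) =
            (centralizer ({g} : Set G)).index * (T : Subgroup (centralizer ({g} : Set G))).index := by
          refine Nat.eq_of_mul_eq_mul_right (pow_pos hp.out.pos t) ?_
          rw [mul_assoc (centralizer _).index, e3, e1, ← e4, hk]
          calc p ^ 2 * (p ^ (k - t - 2) * S.index) * p ^ t
              = S.index * (p ^ 2 * p ^ (k - t - 2) * p ^ t) := by ring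
            _ = _ := by rw [← pow_add, ← pow_add]; congr 2; omega
        exact (Nat.Coprime.pow_left 2 (hp.out.coprime_iff_not_dvd.2
          T.not_dvd_index)).dvd_of_dvd_mul_right ⟨_, hmul.symm⟩
      have hk1 : 1 ≤ k := by
        by_contra hk0
        have hk0' : k = 0 := by omega
        rw [hk0', pow_zero] at hk
        refine hNC fun a _ => mem_centralizer_iff.2 fun b hb => ?_
        rw [(eq_bot_of_card_eq S hk), coe_bot, Set.mem_singleton_iff] at hb
        rw [hb, one_mul, mul_one]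
      have ht' : t ≤ k := (Nat.pow_dvd_pow_iff_le_right hp.out.one_lt).1
        (hT'c ▸ hk ▸ card_dvd_of_le hT'S)
      obtain ⟨M, hMT, hM⟩ : ∃ M : Subgroup G, M ≤ T' ∧ Nat.card M = p ^ (k - 1) := by
        obtain ⟨M', hM'⟩ := Sylow.exists_subgroup_card_pow_prime (G := T') p (n := k - 1)
          (hT'c ▸ pow_dvd_pow p (by omega))
        exact ⟨M'.map T'.subtype, map_subtype_le _,
          by rw [card_map_of_injective T'.subtype_injective, hM']⟩
      have hM0 : M ≤ S ∧ Nat.card M * p = Nat.card S :=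
        ⟨hMT.trans hT'S, by rw [hM, hk, ← pow_succ]; congr 1; omega⟩
      have hgM : c * g * c⁻¹ ∈ centralizer (M : Set G) := by
        refine mem_centralizer_iff.2 fun w hw => ?_
        obtain ⟨_, ⟨w', -, rfl⟩, rfl⟩ := hMT hw
        have := mem_cent.1 w'.2
        show c * (w' : G) * c⁻¹ * (c * g * c⁻¹) = c * g * c⁻¹ * (c * (w' : G) * c⁻¹)
        calc c * (w' : G) * c⁻¹ * (c * g * c⁻¹) = c * ((w' : G) * g) * c⁻¹ := by group
          _ = c * (g * (w' : G)) * c⁻¹ := by rw [this]
          _ = _ := by group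
      have hcn : ∀ a : N₀, M.map (MulAut.conj (a : G)).toMonoidHom ≤ S ∧
          Nat.card (M.map (MulAut.conj (a : G)).toMonoidHom) * p = Nat.card S := fun a => by
        refine ⟨?_, by rw [card_map_of_injective (MulAut.conj (a : G)).injective, hM0.2]⟩
        rintro _ ⟨w, hw, rfl⟩
        exact (mem_normalizer_iff.1 a.2 w).1 (hM0.1 hw)
      refine hfree (fun a => (⟨_, hcn a⟩ : Hyp)) _ (fun a => ?_) fun a b hab => ?_
      · refine (Finset.mem_bipartiteAbove _).2 ⟨Finset.mem_univ _, (a : G) * c, ?_, ?_⟩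
        · refine mem_centralizer_iff.2 fun w hw => ?_
          obtain ⟨w', hw', rfl⟩ := hw
          have := mem_centralizer_iff.1 hgM w' hw'
          show (a : G) * w' * (a : G)⁻¹ * ((a : G) * c * g * ((a : G) * c)⁻¹) =
            (a : G) * c * g * ((a : G) * c)⁻¹ * ((a : G) * w' * (a : G)⁻¹)
          calc (a : G) * w' * (a : G)⁻¹ * ((a : G) * c * g * ((a : G) * c)⁻¹)
              = (a : G) * (w' * (c * g * c⁻¹)) * (a : G)⁻¹ := by group
            _ = (a : G) * ((c * g * c⁻¹) * w') * (a : G)⁻¹ := by rw [this]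
            _ = _ := by group
        · exact hregconj _ g hgp
      · refine hstab M hM0.1 hM0.2 ⟨N₀.mul_mem (N₀.inv_mem a.2) b.2, mem_normalizer_iff.2 fun w => ?_⟩
        have hMeq : M.map (MulAut.conj (a : G)).toMonoidHom =
            M.map (MulAut.conj (b : G)).toMonoidHom := congrArg Subtype.val hab
        have hm1 : ∀ (d e : G), M.map (MulAut.conj d).toMonoidHom ≤
            M.map (MulAut.conj e).toMonoidHom → ∀ v ∈ M, e⁻¹ * (d * v * d⁻¹) * e ∈ M := by
          intro d e hde v hv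
          obtain ⟨v', hv', he⟩ := hde ⟨v, hv, rfl⟩
          have he' : e * v' * e⁻¹ = d * v * d⁻¹ := he
          have : e⁻¹ * (d * v * d⁻¹) * e = v' := by rw [← he']; group
          rwa [this]
        constructor
        · intro hw
          have := hm1 _ _ hMeq.ge w hw
          convert this using 1
          group
        · intro hw
          have := hm1 _ _ hMeq.le _ hw
          convert this using 1
          group
    · obtain ⟨z, hz, hz1⟩ := M.1.bot_or_exists_ne_one.resolve_left (hbot _ M.2.1 M.2.2)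
      have hle : centralizer (M.1 : Set G) ≤ centralizer ({z} : Set G) :=
        centralizer_le (Set.singleton_subset_iff.2 hz)
      have hSle : S ≤ centralizer (M.1 : Set G) := fun a ha =>
        mem_centralizer_iff.2 fun w hw => hP w (M.2.1 hw) a ha
      refine le_trans ?_ (ncard_conj_le S _ hSle (ZM M.1) (fun g hg => hg.1)
        (fun a ha g hg => ⟨(centralizer _).mul_mem ((centralizer _).mul_mem ha hg.1)
          ((centralizer _).inv_mem ha), hregconj a g hg.2⟩)
        (hcov z (M.2.1 hz) hz1 _ hSle hle))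
      rw [← Set.ncard_coe_finset]
      exact Set.ncard_le_ncard (fun g hg => ((Finset.mem_bipartiteBelow _).1 hg).2) (Set.toFinite _)
  have hB : B.card * m ≤ Fintype.card U * S.index := by
    rw [← Finset.card_univ]
    refine Finset.card_mul_le_card_mul (fun g (z : U) => ∃ c, c * g * c⁻¹ ∈ ZU z.1)
      (fun g hg => ?_) fun z _ => ?_
    · have hgp : p ∣ orderOf g := (Finset.mem_filter.1 hg).2
      obtain ⟨a, b, hab, -, -, hcomm, ⟨i, hi⟩, hb⟩ := exists_parts p g
      obtain ⟨Q, hQ⟩ := (IsPGroup.of_card ((Nat.card_zpowers a).trans hi)).exists_le_sylow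
      obtain ⟨c, hc⟩ := MulAction.exists_smul_eq G Q P
      have haS : c * a * c⁻¹ ∈ S := by
        rw [hS, ← hc, Sylow.coe_subgroup_smul]
        exact ⟨a, hQ (mem_zpowers a), rfl⟩
      have ha1 : c * a * c⁻¹ ≠ 1 := fun he => by
        rw [conj_eq_one_iff] at he
        rw [hab, he, one_mul] at hgp
        exact hb hgp
      have hcn : ∀ d : N₀, (d : G) * (c * a * c⁻¹) * (d : G)⁻¹ ∈ S ∧
          (d : G) * (c * a * c⁻¹) * (d : G)⁻¹ ≠ 1 :=
        fun d => ⟨(mem_normalizer_iff.1 d.2 _).1 haS, by rwa [Ne, conj_eq_one_iff]⟩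
      refine hfree (fun d => (⟨_, hcn d⟩ : U)) _ (fun d => ?_) fun d e hde => ?_
      · refine (Finset.mem_bipartiteAbove _).2 ⟨Finset.mem_univ _, (d : G) * c, mem_cent.2 ?_, ?_⟩
        · show (d : G) * c * g * ((d : G) * c)⁻¹ * ((d : G) * (c * a * c⁻¹) * (d : G)⁻¹) =
            (d : G) * (c * a * c⁻¹) * (d : G)⁻¹ * ((d : G) * c * g * ((d : G) * c)⁻¹)
          have h1 : g * a = a * g := by
            rw [hab, mul_assoc, hcomm.eq]
          calc (d : G) * c * g * ((d : G) * c)⁻¹ * ((d : G) * (c * a * c⁻¹) * (d : G)⁻¹)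
              = (d : G) * c * (g * a) * ((d : G) * c)⁻¹ := by group
            _ = (d : G) * c * (a * g) * ((d : G) * c)⁻¹ := by rw [h1]
            _ = _ := by group
        · have h1 : g * a⁻¹ = b := by rw [hab, hcomm.eq, mul_inv_cancel_right]
          have : (d : G) * c * g * ((d : G) * c)⁻¹ * ((d : G) * (c * a * c⁻¹) * (d : G)⁻¹)⁻¹ =
              (d : G) * c * (g * a⁻¹) * ((d : G) * c)⁻¹ := by group
          rw [this, h1]
          exact hregconj _ b hb
      · have he : (d : G) * (c * a * c⁻¹) * (d : G)⁻¹ = (e : G) * (c * a * c⁻¹) * (e : G)⁻¹ :=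
          congrArg Subtype.val hde
        refine hfix _ haS ha1 ⟨N₀.mul_mem (N₀.inv_mem d.2) e.2, mem_cent.2 ?_⟩
        calc (d : G)⁻¹ * e * (c * a * c⁻¹)
            = (d : G)⁻¹ * ((e : G) * (c * a * c⁻¹) * (e : G)⁻¹) * e := by group
          _ = c * a * c⁻¹ * ((d : G)⁻¹ * e) := by rw [← he]; group
    · set Cz := centralizer ({z.1} : Set G) with hCz
      have hSle : S ≤ Cz := fun a ha => mem_cent.2 (hP a ha z.1 z.2.1)
      have hzC : z.1 ∈ Cz := mem_cent.2 rfl
      refine le_trans ?_ (ncard_conj_le S _ hSle (ZU z.1) (fun g hg => hg.1)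
        (fun a ha g hg => ⟨Cz.mul_mem (Cz.mul_mem ha hg.1) (Cz.inv_mem ha), ?_⟩) ?_)
      · rw [← Set.ncard_coe_finset]
        exact Set.ncard_le_ncard (fun g hg => ((Finset.mem_bipartiteBelow _).1 hg).2)
          (Set.toFinite _)
      · have h1 : a * z.1⁻¹ = z.1⁻¹ * a := (Commute.inv_right (mem_cent.1 ha : Commute a z.1))
        have : a * g * a⁻¹ * z.1⁻¹ = a * (g * z.1⁻¹) * a⁻¹ := by
          calc a * g * a⁻¹ * z.1⁻¹ = a * g * a⁻¹ * (z.1⁻¹ * a) * a⁻¹ := by group
            _ = _ := by rw [← h1]; group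
        rw [this]
        exact hregconj a _ hg.2
      · refine le_trans (Nat.mul_le_mul_right _ ?_) (hcov z.1 z.2.1 z.2.2 Cz hSle le_rfl)
        exact Set.ncard_le_ncard_of_injOn (fun g => g * z.1⁻¹)
          (fun g hg => ⟨Cz.mul_mem hg.1 (Cz.inv_mem hzC), hg.2⟩)
          (fun a _ b _ hab => mul_right_cancel hab) (Set.toFinite _)
  have hHyp : Fintype.card Hyp ≤ Nat.card S := by
    rw [← Nat.card_eq_fintype_card]
    exact card_hyperplanes_le S
  have hU : Fintype.card U + 1 ≤ Nat.card S := by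
    rw [← Nat.card_eq_fintype_card]
    have e1 : Nat.card U = ((S : Set G) \ {1}).ncard := by rw [← Nat.card_coe_set_eq]; rfl
    rw [e1, Set.ncard_sdiff (Set.singleton_subset_iff.2 S.one_mem), Set.ncard_singleton,
      ← Nat.card_coe_set_eq]
    have : 0 < Nat.card S := Nat.card_pos
    show Nat.card S - 1 + 1 ≤ Nat.card S
    omega
  have hAB : A.card + B.card = Nat.card G := by
    rw [Nat.card_eq_fintype_card, ← Finset.card_univ, add_comm]
    exact Finset.card_filter_add_card_filter_not _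
  have hSi := S.index_mul_card
  have hidx : 0 < S.index := Nat.pos_of_ne_zero index_ne_zero_of_finite
  exfalso
  have h3 : Nat.card G * m ≤ (Fintype.card Hyp + Fintype.card U) * S.index := by
    rw [← hAB, add_mul, add_mul]; exact Nat.add_le_add hA hB
  have h4 : Nat.card G * 2 ≤ Nat.card G * m := Nat.mul_le_mul_left _ hm2
  have h5 : (Fintype.card Hyp + Fintype.card U + 1) * S.index ≤ 2 * Nat.card S * S.index :=
    Nat.mul_le_mul_right _ (by omega)
  nlinarith

end Cfsg.Agent.GenA.SquareFree
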