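import Cfsg.Agent.GenA.SquareFree.Count
import Cfsg.Agent.GStructB.Cover
import Cfsg.Agent.Lib.Cores.Nilpotent
import Cfsg.Agent.Lib.Hall.Supersolvable
import Cfsg.Agent.GenA.VaughanLee.Main
import Cfsg.Agent.GroupStructure3.ClassGraph.Basic

/-!
Groups all of whose class sizes are square-free: solvable, supersolvable, cyclic derived subgroup
of square-free order.
-/

set_option autoImplicit false

namespace Cfsg.Agent.GenA.SquareFree

open Subgroup
open scoped commutatorElement

universe u

/-- The smallest prime has a normal complement when no class size is divisible by its square. -/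
theorem nilP_of_all {p : ℕ} [hp : Fact p.Prime] (G : Type u) [Group G] [Finite G]
    (hmin : ∀ r : ℕ, r.Prime → r ∣ Nat.card G → p ≤ r)
    (h : ∀ g : G, ¬ p ^ 2 ∣ (centralizer ({g} : Set G)).index) : NilP p G := by
  induction hn : Nat.card G using Nat.strong_induction_on generalizing G with
  | _ n ih =>
  obtain ⟨P⟩ : Nonempty (Sylow p G) := inferInstance
  by_cases hP : ∀ a ∈ (P : Subgroup G), ∀ b ∈ (P : Subgroup G), a * b = b * a
  · exact nilP_of_abelian G hmin P hP fun g _ => h g
  obtain ⟨S, hS⟩ : ∃ S, S = (P : Subgroup G) := ⟨_, rfl⟩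
  haveI : Group.IsNilpotent S := hS ▸ P.2.isNilpotent
  have hne : commutator S ≠ ⊥ := by
    intro he
    refine hP fun a ha b hb => ?_
    subst hS
    have h1 : ⁅(⟨a, ha⟩ : (P : Subgroup G)), ⟨b, hb⟩⁆ ∈ commutator (P : Subgroup G) :=
      commutator_mem_commutator (mem_top _) (mem_top _)
    rw [he, mem_bot, commutatorElement_eq_one_iff_mul_comm] at h1
    exact congrArg Subtype.val h1
  obtain ⟨z, hz, hz1⟩ := ((commutator S ⊓ center S).bot_or_exists_ne_one).resolve_left
    (Cfsg.Agent.Cores.inf_center_ne_bot hne)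
  obtain ⟨k, hk⟩ := IsPGroup.iff_card.1 P.2
  rw [← hS] at hk
  have hk1 : k ≠ 0 := by
    intro h0
    rw [h0, pow_zero] at hk
    haveI : Subsingleton S := (Nat.card_eq_one_iff_unique.1 hk).1
    exact hne (Subsingleton.elim _ _)
  have hcover : ∀ g : G, ∃ c : G, c⁻¹ * g * c ∈ centralizer ({(z : G)} : Set G) := by
    intro g
    obtain ⟨T⟩ : Nonempty (Sylow p (centralizer ({g} : Set G))) := inferInstance
    obtain ⟨Q, hQ⟩ := (T.2.map (centralizer ({g} : Set G)).subtype).exists_le_sylow
    obtain ⟨c, hc⟩ := MulAction.exists_smul_eq G Q P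
    set T' := ((T : Subgroup (centralizer ({g} : Set G))).map
      (centralizer ({g} : Set G)).subtype).map (MulAut.conj c).toMonoidHom with hT'
    have hT'S : T' ≤ S := by
      rw [hS, ← hc]
      rintro _ ⟨t, ht, rfl⟩
      rw [Sylow.coe_subgroup_smul]
      exact ⟨t, hQ ht, rfl⟩
    obtain ⟨t, ht⟩ := IsPGroup.iff_card.1 T.2
    have hT'c : Nat.card T' = p ^ t := by
      rw [hT', card_map_of_injective (MulAut.conj c).injective,
        card_map_of_injective (centralizer ({g} : Set G)).subtype_injective, ht]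
    have htk : k ≤ t + 1 := by
      by_contra hlt
      push Not at hlt
      refine h g ?_
      have e1 := (centralizer ({g} : Set G)).index_mul_card
      have e3 := (T : Subgroup (centralizer ({g} : Set G))).index_mul_card
      have e4 := (P : Subgroup G).index_mul_card
      rw [ht] at e3
      rw [← hS, hk] at e4
      have hmul : p ^ 2 * (p ^ (k - t - 2) * S.index) =
          (centralizer ({g} : Set G)).index * (T : Subgroup (centralizer ({g} : Set G))).index := by
        refine Nat.eq_of_mul_eq_mul_right (pow_pos hp.out.pos t) ?_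
        rw [mul_assoc (centralizer _).index, e3, e1, ← e4]
        calc p ^ 2 * (p ^ (k - t - 2) * S.index) * p ^ t
            = S.index * (p ^ 2 * p ^ (k - t - 2) * p ^ t) := by ring
          _ = _ := by rw [← pow_add, ← pow_add]; congr 2; omega
      exact (Nat.Coprime.pow_left 2 (hp.out.coprime_iff_not_dvd.2
        T.not_dvd_index)).dvd_of_dvd_mul_right ⟨_, hmul.symm⟩
    have hzT : (z : G) ∈ T' := by
      have hcard : Nat.card (T'.subgroupOf S) = p ^ t :=
        (Nat.card_congr (subgroupOfEquivOfLe hT'S).toEquiv).trans hT'c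
      have htk' : t ≤ k := (Nat.pow_dvd_pow_iff_le_right hp.out.one_lt).1
        (hT'c ▸ hk ▸ card_dvd_of_le hT'S)
      have e := (T'.subgroupOf S).index_mul_card
      rw [hcard, hk] at e
      rcases eq_or_lt_of_le htk' with rfl | hlt
      · have : T'.subgroupOf S = ⊤ := eq_top_of_card_eq _ (hcard.trans hk.symm)
        exact mem_subgroupOf.1 (show z ∈ T'.subgroupOf S by rw [this]; exact mem_top z)
      · have hkt : k = t + 1 := by omega
        have hidx : (T'.subgroupOf S).index = p := by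
          refine Nat.eq_of_mul_eq_mul_right (pow_pos hp.out.pos t) ?_
          rw [e, hkt, pow_succ]; ring
        haveI : (T'.subgroupOf S).Normal :=
          normal_of_index_eq_minFac_card (by rw [hidx, hk, hp.out.pow_minFac hk1])
        haveI : IsCyclic (S ⧸ T'.subgroupOf S) := isCyclic_of_prime_card (p := p) (by
          rw [← index, hidx])
        have hle : commutator S ≤ T'.subgroupOf S := by
          rw [_root_.commutator_def, commutator_le]
          intro a _ b _
          rw [← QuotientGroup.eq_one_iff]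
          show QuotientGroup.mk' (T'.subgroupOf S) ⁅a, b⁆ = 1
          rw [map_commutatorElement, commutatorElement_eq_one_iff_mul_comm]
          exact mul_comm' _ _
        exact mem_subgroupOf.1 (hle hz.1)
    refine ⟨c⁻¹, mem_cent.2 ?_⟩
    obtain ⟨_, ⟨w, -, rfl⟩, he⟩ := hzT
    have hw := mem_cent.1 w.2
    have he' : c * (w : G) * c⁻¹ = z := he
    rw [← he', inv_inv]
    calc c * g * c⁻¹ * (c * (w : G) * c⁻¹) = c * (g * w) * c⁻¹ := by group
      _ = c * (w * g) * c⁻¹ := by rw [hw]
      _ = _ := by group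
  have htop := Cfsg.Agent.GStructB.Cover.eq_top_of_forall_conj _ hcover
  have hzc : zpowers (z : G) ≤ center G := zpowers_le.2 (mem_center_iff.2 fun g =>
    mem_cent.1 (htop ▸ mem_top g : g ∈ centralizer ({(z : G)} : Set G)))
  haveI : (zpowers (z : G)).Normal :=
    ⟨fun a ha g => by rw [mem_center_iff.1 (hzc ha) g, mul_inv_cancel_right]; exact ha⟩
  obtain ⟨i, hi⟩ : ∃ i, orderOf (z : G) = p ^ i := by
    obtain ⟨i, hi⟩ := IsPGroup.iff_orderOf.1 P.2 ⟨(z : G), hS ▸ z.2⟩
    exact ⟨i, by rwa [← Subgroup.orderOf_coe] at hi⟩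
  refine NilP.of_central (zpowers (z : G)) hzc ((Nat.card_zpowers _).trans hi) ?_
  refine ih _ ?_ (G ⧸ zpowers (z : G))
    (fun r hr hd => hmin r hr (hd.trans (card_quotient_dvd_card _))) (fun y hd => ?_) rfl
  · subst hn
    rw [(zpowers (z : G)).card_eq_card_quotient_mul_card_subgroup]
    refine lt_mul_of_one_lt_right Nat.card_pos ?_
    rw [Nat.card_zpowers]
    refine Nat.lt_of_le_of_ne (orderOf_pos _) fun he => hz1 ?_
    exact Subtype.ext (orderOf_eq_one_iff.1 he.symm)
  · obtain ⟨g, rfl⟩ := QuotientGroup.mk'_surjective (zpowers (z : G)) y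
    exact h g (hd.trans (index_class_map (QuotientGroup.mk'_surjective _) g))

theorem isSolvable (G : Type u) [Group G] [Finite G]
    (h : ∀ g : G, Squarefree (centralizer ({g} : Set G)).index) : Group.IsSolvable G := by
  induction hn : Nat.card G using Nat.strong_induction_on generalizing G with
  | _ n ih =>
  by_cases h1 : Nat.card G = 1
  · haveI : Subsingleton G := (Nat.card_eq_one_iff_unique.1 h1).1
    exact Group.isSolvable_of_comm fun a b => Subsingleton.elim _ _
  haveI : Fact (Nat.card G).minFac.Prime := ⟨Nat.minFac_prime h1⟩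
  obtain ⟨N, hN, hNc, k, hk⟩ := nilP_of_all (p := (Nat.card G).minFac) G
    (fun r hr hd => Nat.minFac_le_of_dvd hr.two_le hd) fun g hd => by
      have := h g _ ((sq (Nat.card G).minFac) ▸ hd)
      exact (Nat.minFac_prime h1).not_isUnit this
  haveI := hN
  have hlt : Nat.card N < n := by
    refine hn ▸ lt_of_le_of_ne (Finite.card_subtype_le _) fun he => hNc ?_
    rw [show Nat.card N = Nat.card G from he]
    exact Nat.minFac_dvd _
  haveI : Group.IsSolvable N := ih _ hlt N (fun x =>
    Squarefree.squarefree_of_dvd (index_class_subgroup N x) (h x)) rfl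
  haveI : Group.IsNilpotent (G ⧸ N) :=
    (IsPGroup.of_card (p := (Nat.card G).minFac) (n := k) (by rw [← index, hk])).isNilpotent
  exact solvable_of_ker_le_range N.subtype (QuotientGroup.mk' N)
    (by rw [QuotientGroup.ker_mk', range_subtype])

section Pair

variable {G : Type u} [Group G]

theorem relIndex_dvd [Finite G] (V : Subgroup G) [V.Normal] (C : Subgroup G) :
    C.relIndex V ∣ C.index := by
  have h1 : C.relIndex V * V.index = (C ⊓ V).index := by
    rw [← inf_relIndex_right, relIndex_mul_index inf_le_right]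
  have h2 : V.relIndex C * C.index = (C ⊓ V).index := by
    rw [← inf_relIndex_left, relIndex_mul_index inf_le_left]
  obtain ⟨t, ht⟩ := relIndex_dvd_index_of_normal V C
  have hpos : 0 < V.relIndex C := Nat.pos_of_ne_zero fun h =>
    index_ne_zero_of_finite (H := V) (by rw [ht, h, zero_mul])
  refine ⟨t, Nat.eq_of_mul_eq_mul_left hpos ?_⟩
  rw [h2, ← h1, ht]
  ring

theorem relIndex_cases [Finite G] {p j : ℕ} (hp : p.Prime) (V : Subgroup G) [V.Normal]
    (hV : Nat.card V = p ^ j) (g : G) (h : Squarefree (centralizer ({g} : Set G)).index) :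
    (centralizer ({g} : Set G)).relIndex V = 1 ∨ (centralizer ({g} : Set G)).relIndex V = p := by
  have h1 : (centralizer ({g} : Set G)).relIndex V ∣ p ^ j := hV ▸ index_dvd_card _
  obtain ⟨i, -, hi⟩ := (Nat.dvd_prime_pow hp).1 h1
  rcases Nat.lt_or_ge i 2 with hi2 | hi2
  · interval_cases i
    · exact Or.inl (by rw [hi, pow_zero])
    · exact Or.inr (by rw [hi, pow_one])
  · exfalso
    refine hp.not_isUnit (h p ?_)
    rw [← sq]
    exact ((pow_dvd_pow p hi2).trans (dvd_of_eq hi.symm)).trans (relIndex_dvd V _)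

variable (V : Subgroup G) [hVn : V.Normal] (hVc : ∀ a ∈ V, ∀ b ∈ V, a * b = b * a)

/-- Commutation with `g` on an abelian normal subgroup. -/
def commHom (g : G) : V →* G where
  toFun v := g * v * g⁻¹ * (v : G)⁻¹
  map_one' := by simp
  map_mul' a b := by
    have h1 : g * (b : G) * g⁻¹ * (b : G)⁻¹ ∈ V :=
      V.mul_mem (hVn.conj_mem _ b.2 g) (V.inv_mem b.2)
    have h2 := hVc _ h1 _ (V.inv_mem a.2)
    push_cast
    calc g * ((a : G) * b) * g⁻¹ * ((a : G) * b)⁻¹
        = g * a * g⁻¹ * ((g * (b : G) * g⁻¹ * (b : G)⁻¹) * (a : G)⁻¹) := by group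
      _ = g * a * g⁻¹ * (a : G)⁻¹ * (g * (b : G) * g⁻¹ * (b : G)⁻¹) := by rw [h2]; group

theorem commHom_apply (g : G) (v : V) : commHom V hVc g v = g * v * g⁻¹ * (v : G)⁻¹ := rfl

theorem commHom_range_le (g : G) : (commHom V hVc g).range ≤ V := by
  rintro _ ⟨v, rfl⟩
  exact V.mul_mem (hVn.conj_mem _ v.2 g) (V.inv_mem v.2)

theorem commHom_ker (g : G) :
    (commHom V hVc g).ker = (centralizer ({g} : Set G)).subgroupOf V := by
  ext v
  rw [MonoidHom.mem_ker, mem_subgroupOf, mem_cent, commHom_apply, mul_inv_eq_one,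
    mul_inv_eq_iff_eq_mul]
  exact eq_comm

theorem card_range (g : G) :
    Nat.card (commHom V hVc g).range = (centralizer ({g} : Set G)).relIndex V := by
  rw [← index_ker, commHom_ker]; rfl

/-- Two elements acting non-trivially share the hyperplane or the line. -/
theorem range_eq_of_ne [Finite G] {p : ℕ} [hp : Fact p.Prime]
    (hsm : ∀ g : G, (centralizer ({g} : Set G)).relIndex V ∣ p) (g h : G)
    (hg : (centralizer ({g} : Set G)).relIndex V = p) (hh : (centralizer ({h} : Set G)).relIndex V = p)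
    (hne : centralizer ({g} : Set G) ⊓ V ≠ centralizer ({h} : Set G) ⊓ V) :
    (commHom V hVc g).range = (commHom V hVc h).range := by
  set A := centralizer ({g} : Set G) ⊓ V with hA
  set B := centralizer ({h} : Set G) ⊓ V with hB
  have hcard : Nat.card A = Nat.card B := by
    have e1 := relIndex_mul_relIndex (⊥ : Subgroup G) A V bot_le inf_le_right
    have e2 := relIndex_mul_relIndex (⊥ : Subgroup G) B V bot_le inf_le_right
    rw [relIndex_bot_left, relIndex_bot_left, hA, inf_relIndex_right, hg] at e1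
    rw [relIndex_bot_left, relIndex_bot_left, hB, inf_relIndex_right, hh] at e2
    exact Nat.eq_of_mul_eq_mul_right hp.out.pos (e1.trans e2.symm)
  obtain ⟨v, hvB, hvA⟩ : ∃ v, v ∈ B ∧ v ∉ A := by
    by_contra hcon
    push Not at hcon
    exact hne (eq_of_le_of_card_ge hcon hcard.le).symm
  obtain ⟨w, hwA, hwB⟩ : ∃ w, w ∈ A ∧ w ∉ B := by
    by_contra hcon
    push Not at hcon
    exact hne (eq_of_le_of_card_ge hcon hcard.ge)
  have hgen : ∀ (L : Subgroup G) (x : G), Nat.card L = p → x ∈ L → x ≠ 1 → L = zpowers x := by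
    intro L x hL hx hx1
    refine (eq_of_le_of_card_ge (zpowers_le.2 hx) ?_).symm
    rw [hL, Nat.card_zpowers]
    have hd : orderOf x ∣ p := hL ▸ (by
      have := orderOf_dvd_natCard (⟨x, hx⟩ : L)
      rwa [← Subgroup.orderOf_coe] at this)
    rcases hp.out.eq_one_or_self_of_dvd _ hd with h1 | h1
    · exact absurd (orderOf_eq_one_iff.1 h1) hx1
    · exact h1.ge
  set φg := commHom V hVc g
  set φh := commHom V hVc h
  have hv1 : φg ⟨v, hvB.2⟩ ≠ 1 := fun he => hvA ⟨by
    have : (⟨v, hvB.2⟩ : V) ∈ φg.ker := he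
    rw [commHom_ker] at this
    exact this, hvB.2⟩
  have hw1 : φh ⟨w, hwA.2⟩ ≠ 1 := fun he => hwB ⟨by
    have : (⟨w, hwA.2⟩ : V) ∈ φh.ker := he
    rw [commHom_ker] at this
    exact this, hwA.2⟩
  have hgh : φg ⟨v, hvB.2⟩ = commHom V hVc (g * h) ⟨v, hvB.2⟩ := by
    simp only [φg, commHom_apply]
    have h1 := mem_cent.1 hvB.1
    calc g * v * g⁻¹ * v⁻¹ = g * (v * h) * h⁻¹ * g⁻¹ * v⁻¹ := by group
      _ = g * (h * v) * h⁻¹ * g⁻¹ * v⁻¹ := by rw [h1]
      _ = g * h * v * (g * h)⁻¹ * v⁻¹ := by group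
  have hLgh : φg.range = (commHom V hVc (g * h)).range := by
    rw [hgen φg.range (φg ⟨v, hvB.2⟩) (by rw [card_range]; exact hg) ⟨_, rfl⟩ hv1, hgh]
    refine (hgen (commHom V hVc (g * h)).range (commHom V hVc (g * h) ⟨v, hvB.2⟩) ?_ ⟨_, rfl⟩
      (hgh ▸ hv1)).symm
    rw [card_range]
    refine (hp.out.eq_one_or_self_of_dvd _ (hsm (g * h))).resolve_left fun h1 => hv1 ?_
    have h2 : (commHom V hVc (g * h)).range = ⊥ := by
      apply eq_bot_of_card_eq; rw [card_range, h1]
    rw [hgh, ← mem_bot, ← h2]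
    exact ⟨_, rfl⟩
  set l := φh ⟨w, hwA.2⟩ with hl
  have hlV : l ∈ V := commHom_range_le V hVc h ⟨_, rfl⟩
  have hprod : commHom V hVc (g * h) ⟨w, hwA.2⟩ = φg ⟨l, hlV⟩ * l := by
    simp only [φg, hl, φh, commHom_apply]
    have h1 := mem_cent.1 hwA.1
    calc g * h * w * (g * h)⁻¹ * w⁻¹
        = g * (h * w * h⁻¹ * w⁻¹) * (w * g⁻¹) * w⁻¹ := by group
      _ = g * (h * w * h⁻¹ * w⁻¹) * (g⁻¹ * w) * w⁻¹ := by
          rw [show w * g⁻¹ = g⁻¹ * w from (Commute.inv_right (h1 : Commute w g)).eq]
      _ = _ := by group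
  have hlL : l ∈ φg.range := by
    have h1 : φg ⟨l, hlV⟩ * l ∈ φg.range := by rw [← hprod, hLgh]; exact ⟨_, rfl⟩
    have := φg.range.mul_mem (φg.range.inv_mem ⟨⟨l, hlV⟩, rfl⟩) h1
    rwa [inv_mul_cancel_left] at this
  rw [hgen φg.range l (by rw [card_range]; exact hg) hlL hw1,
    hgen φh.range l (by rw [card_range]; exact hh) ⟨_, rfl⟩ hw1]

end Pair

theorem supersolvable (G : Type u) [Group G] [Finite G]
    (h : ∀ g : G, Squarefree (centralizer ({g} : Set G)).index) : Cfsg.IsSupersolvable G := by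
  induction hn : Nat.card G using Nat.strong_induction_on generalizing G with
  | _ n ih =>
  rcases subsingleton_or_nontrivial G with hsub | hnt
  · exact Cfsg.Agent.Hall.Supersolvable.of_subsingleton
  haveI := isSolvable G h
  obtain ⟨V, hVn, -, hV1, hVmin⟩ :=
    Cfsg.Agent.Hall.exists_minimal_normal (⊤ : Subgroup G) top_ne_bot
  haveI := hVn
  obtain ⟨p, hp, hpd, hVp, hVe⟩ :=
    Cfsg.Agent.Hall.minimal_normal_isElementaryAbelian hV1 hVmin
  haveI : Fact p.Prime := ⟨hp⟩
  obtain ⟨j, hj⟩ := IsPGroup.iff_card.1 hVp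
  have hVc : ∀ a ∈ V, ∀ b ∈ V, a * b = b * a := fun a ha b hb =>
    congrArg Subtype.val (hVe.1.is_comm.comm ⟨a, ha⟩ ⟨b, hb⟩)
  have hsm : ∀ g : G, (centralizer ({g} : Set G)).relIndex V ∣ p := fun g => by
    rcases relIndex_cases hp V hj g (h g) with e | e <;> rw [e]
    exact one_dvd p
  have hVcard : Nat.card V = p := by
    by_cases hall : ∀ g : G, (centralizer ({g} : Set G)).relIndex V = 1
    · obtain ⟨v, hv⟩ := exists_prime_orderOf_dvd_card' (G := V) p hpd
      have hcen : ∀ g : G, g * (v : G) = (v : G) * g := fun g =>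
        (mem_cent.1 (relIndex_eq_one.1 (hall g) v.2)).symm
      have hn' : (zpowers (v : G)).Normal :=
        ⟨fun a ha g => by
          obtain ⟨i, rfl⟩ := ha
          show g * (v : G) ^ i * g⁻¹ ∈ zpowers (v : G)
          rw [(Commute.zpow_right (hcen g : Commute g v) i).eq, mul_inv_cancel_right]
          exact zpow_mem (mem_zpowers _) i⟩
      rcases hVmin _ hn' (zpowers_le.2 v.2) with h0 | h0
      · rw [zpowers_eq_bot, ← orderOf_eq_one_iff, Subgroup.orderOf_coe, hv] at h0
        exact absurd h0 hp.ne_one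
      · rw [← h0, Nat.card_zpowers, Subgroup.orderOf_coe, hv]
    push Not at hall
    obtain ⟨g₀, hg₀⟩ := hall
    have hrel : ∀ g : G, (centralizer ({g} : Set G)).relIndex V ≠ 1 →
        (centralizer ({g} : Set G)).relIndex V = p := fun g hg =>
      (hp.eq_one_or_self_of_dvd _ (hsm g)).resolve_left hg
    have hconj : ∀ c g : G, (centralizer ({g} : Set G)).relIndex V ≠ 1 →
        (centralizer ({c * g * c⁻¹} : Set G)).relIndex V ≠ 1 := by
      intro c g hg he
      refine hg (relIndex_eq_one.2 fun v hv => mem_cent.2 ?_)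
      have h1 := mem_cent.1 (relIndex_eq_one.1 he (hVn.conj_mem v hv c))
      calc v * g = c⁻¹ * (c * v * c⁻¹ * (c * g * c⁻¹)) * c := by group
        _ = c⁻¹ * (c * g * c⁻¹ * (c * v * c⁻¹)) * c := by rw [h1]
        _ = g * v := by group
    set H₀ := centralizer ({g₀} : Set G) ⊓ V with hH₀
    by_cases hH : ∀ g : G, (centralizer ({g} : Set G)).relIndex V ≠ 1 →
        centralizer ({g} : Set G) ⊓ V = H₀
    · have hn' : H₀.Normal := by
        refine ⟨fun v hv c => ?_⟩
        rw [← hH _ (hconj c g₀ hg₀)]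
        refine ⟨mem_cent.2 ?_, hVn.conj_mem v hv.2 c⟩
        have h1 := mem_cent.1 hv.1
        calc c * v * c⁻¹ * (c * g₀ * c⁻¹) = c * (v * g₀) * c⁻¹ := by group
          _ = c * (g₀ * v) * c⁻¹ := by rw [h1]
          _ = _ := by group
      rcases hVmin _ hn' inf_le_right with h0 | h0
      · have e := hrel g₀ hg₀
        rw [← inf_relIndex_right, ← hH₀, h0, relIndex_bot_left] at e
        exact e
      · exact absurd (relIndex_eq_one.2 (inf_eq_right.1 h0)) hg₀
    push Not at hH
    obtain ⟨g₁, hg₁, hne⟩ := hH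
    set L := (commHom V hVc g₀).range with hL
    have hall' : ∀ g : G, (centralizer ({g} : Set G)).relIndex V ≠ 1 →
        (commHom V hVc g).range = L := by
      intro g hg
      by_cases e : centralizer ({g} : Set G) ⊓ V = H₀
      · rw [range_eq_of_ne V hVc hsm g g₁ (hrel g hg) (hrel g₁ hg₁) (e ▸ Ne.symm hne),
          range_eq_of_ne V hVc hsm g₁ g₀ (hrel g₁ hg₁) (hrel g₀ hg₀) hne]
      · exact range_eq_of_ne V hVc hsm g g₀ (hrel g hg) (hrel g₀ hg₀) e
    have hn' : L.Normal := by
      refine ⟨fun x hx c => ?_⟩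
      obtain ⟨v, rfl⟩ := hx
      rw [← hall' _ (hconj c g₀ hg₀)]
      refine ⟨⟨c * v * c⁻¹, hVn.conj_mem _ v.2 c⟩, ?_⟩
      simp only [commHom_apply]
      group
    have hLc : Nat.card L = p := by rw [hL, card_range]; exact hrel g₀ hg₀
    rcases hVmin _ hn' (commHom_range_le V hVc g₀) with h0 | h0
    · rw [h0, card_bot] at hLc
      exact absurd hLc.symm hp.ne_one
    · exact h0 ▸ hLc
  haveI : IsCyclic V := isCyclic_of_prime_card hVcard
  refine Cfsg.Agent.Hall.Supersolvable.of_normal_cyclic V (ih _ ?_ (G ⧸ V) (fun y => ?_) rfl)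
  · exact hn ▸ Cfsg.Agent.Hall.Supersolvable.card_quotient_lt (hVcard ▸ hp.one_lt)
  · obtain ⟨g, rfl⟩ := QuotientGroup.mk'_surjective V y
    exact Squarefree.squarefree_of_dvd (index_class_map (QuotientGroup.mk'_surjective _) g) (h g)

theorem eq_one_of_shift {G : Type u} [Group G] {r j : ℕ} (hr : r.Prime) {a z w : G}
    (ha : (orderOf a).Coprime r) (hw : w ^ r ^ j = 1) (haw : a * w * a⁻¹ = w)
    (h : a * z * a⁻¹ = z * w) : w = 1 := by
  have hn : ∀ n : ℕ, a ^ n * z * (a ^ n)⁻¹ = z * w ^ n := by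
    intro n
    induction n with
    | zero => simp
    | succ n ih =>
      calc a ^ (n + 1) * z * (a ^ (n + 1))⁻¹ = a * (a ^ n * z * (a ^ n)⁻¹) * a⁻¹ := by
            rw [pow_succ']; group
        _ = a * (z * w ^ n) * a⁻¹ := by rw [ih]
        _ = (a * z * a⁻¹) * (a * w * a⁻¹) ^ n := by rw [conj_pow]; group
        _ = z * w ^ (n + 1) := by rw [h, haw, mul_assoc, ← pow_succ']
  have h1 := hn (orderOf a)
  rw [pow_orderOf_eq_one, one_mul, inv_one, mul_one, left_eq_mul] at h1
  exact orderOf_eq_one_iff.1 (Nat.eq_one_of_dvd_coprimes (ha.pow_right j)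
    (orderOf_dvd_of_pow_eq_one h1) (orderOf_dvd_of_pow_eq_one hw))

theorem commutator_squarefree (G : Type u) [Group G] [Finite G]
    (h : ∀ g : G, Squarefree (centralizer ({g} : Set G)).index) :
    Squarefree (Nat.card (commutator G)) := by
  induction hn : Nat.card G using Nat.strong_induction_on generalizing G with
  | _ n ih =>
  rw [Nat.squarefree_iff_prime_squarefree]
  intro r hr hd
  haveI : Fact r.Prime := ⟨hr⟩
  have hss := supersolvable G h
  haveI := Cfsg.Agent.Hall.Supersolvable.isNilpotent_commutator hss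
  have hprime : ∀ N : Subgroup G, N.Normal → (Nat.card N).Prime → Nat.card N = r := by
    intro N hN hNp
    haveI := hN
    by_contra hne
    have hlt : Nat.card (G ⧸ N) < n :=
      hn ▸ Cfsg.Agent.Hall.Supersolvable.card_quotient_lt hNp.one_lt
    have hsq := ih _ hlt (G ⧸ N) (fun y => by
      obtain ⟨g, rfl⟩ := QuotientGroup.mk'_surjective N y
      exact Squarefree.squarefree_of_dvd
        (index_class_map (QuotientGroup.mk'_surjective _) g) (h g)) rfl
    have hmap : (commutator G).map (QuotientGroup.mk' N) = commutator (G ⧸ N) := by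
      rw [_root_.commutator_def, _root_.commutator_def, map_commutator,
        map_top_of_surjective _ (QuotientGroup.mk'_surjective N)]
    have h1 : Nat.card (commutator G) ∣ Nat.card (commutator (G ⧸ N)) * Nat.card N := by
      let f := (QuotientGroup.mk' N).comp (commutator G).subtype
      have e : f.range = commutator (G ⧸ N) := by
        rw [MonoidHom.range_comp, range_subtype, hmap]
      have e1 := f.ker.index_mul_card
      rw [index_ker, e] at e1
      rw [← e1]
      refine mul_dvd_mul_left _ ?_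
      have e2 : f.ker = (QuotientGroup.mk' N).ker.subgroupOf (commutator G) := rfl
      rw [e2, QuotientGroup.ker_mk', ← inf_subgroupOf_right,
        Nat.card_congr (subgroupOfEquivOfLe inf_le_right).toEquiv]
      exact card_dvd_of_le inf_le_left
    refine hr.not_isUnit (hsq r ?_)
    exact (((Nat.coprime_primes hr hNp).2 (Ne.symm hne)).mul_left
      ((Nat.coprime_primes hr hNp).2 (Ne.symm hne))).dvd_of_dvd_mul_right (hd.trans h1)
  -- the derived subgroup is an `r`-group
  have hG' : IsPGroup r (commutator G) := by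
    rw [IsPGroup.iff_card]
    refine ⟨(Nat.card (commutator G)).primeFactorsList.length,
      Nat.eq_prime_pow_of_unique_prime_dvd Nat.card_pos.ne' fun {t} ht htd => ?_⟩
    haveI : Fact t.Prime := ⟨ht⟩
    obtain ⟨T⟩ : Nonempty (Sylow t (commutator G)) := inferInstance
    haveI : (T : Subgroup (commutator G)).Normal :=
      (Group.isNilpotent_of_finite_tfae.out 0 3 rfl rfl).mp
        (inferInstance : Group.IsNilpotent (commutator G)) t ⟨ht⟩ T
    haveI : (T : Subgroup (commutator G)).Characteristic := T.characteristic_of_normal inferInstance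
    have hne : (T : Subgroup (commutator G)).map (commutator G).subtype ≠ ⊥ := by
      intro he
      rw [map_eq_bot_iff_of_injective _ (commutator G).subtype_injective] at he
      refine T.not_dvd_index ?_
      rw [he, index_bot]
      exact htd
    obtain ⟨N, hN, hNT, hNp⟩ :=
      Cfsg.Agent.Hall.Supersolvable.exists_normal_prime_le hss _ hne
    have h1 := hprime N hN hNp
    have h2 := card_dvd_of_le hNT
    rw [card_map_of_injective (commutator G).subtype_injective] at h2
    obtain ⟨i, hi⟩ := IsPGroup.iff_card.1 T.2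
    rw [hi, h1] at h2
    exact ((Nat.prime_dvd_prime_iff_eq hr ht).1 (hr.dvd_of_dvd_pow h2)).symm
  obtain ⟨R, hGR⟩ := hG'.exists_le_sylow
  set S := (R : Subgroup G) with hS
  have hcm : ∀ a b : G, ⁅a, b⁆ ∈ commutator G := fun a b =>
    commutator_mem_commutator (mem_top _) (mem_top _)
  haveI hSn : S.Normal := ⟨fun x hx g => by
    have : g * x * g⁻¹ = ⁅g, x⁆ * x := by rw [commutatorElement_def]; group
    rw [this]
    exact S.mul_mem (hGR (hcm g x)) hx⟩
  obtain ⟨j, hj⟩ := IsPGroup.iff_card.1 R.2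
  rw [← hS] at hj
  obtain ⟨A, hA⟩ := exists_right_complement'_of_coprime R.card_coprime_index
  have hAdisj : S ⊓ A = ⊥ := hA.disjoint.eq_bot
  have hAc : ∀ a ∈ A, ∀ b ∈ A, a * b = b * a := by
    intro a ha b hb
    have h1 : ⁅a, b⁆ ∈ S ⊓ A := ⟨hGR (hcm a b), by
      rw [commutatorElement_def]
      exact A.mul_mem (A.mul_mem (A.mul_mem ha hb) (A.inv_mem ha)) (A.inv_mem hb)⟩
    rw [hAdisj, mem_bot, commutatorElement_eq_one_iff_mul_comm] at h1
    exact h1
  have hdec : ∀ g : G, ∃ x ∈ S, ∃ a ∈ A, g = x * a := fun g => by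
    obtain ⟨⟨x, a⟩, he⟩ := hA.2 g
    exact ⟨x, x.2, a, a.2, he.symm⟩
  have hAcop : ∀ a ∈ A, (orderOf a).Coprime r := by
    intro a ha
    refine (hr.coprime_iff_not_dvd.2 fun hd' => R.not_dvd_index ?_).symm
    rw [hA.symm.index_eq_card]
    have := orderOf_dvd_natCard (⟨a, ha⟩ : A)
    rw [← Subgroup.orderOf_coe] at this
    exact hd'.trans this
  have hrel : ∀ g : G, (centralizer ({g} : Set G)).relIndex S = 1 ∨
      (centralizer ({g} : Set G)).relIndex S = r := fun g => relIndex_cases hr S hj g (h g)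
  have hsm : ∀ g : G, (centralizer ({g} : Set G)).relIndex S ∣ r := fun g => by
    rcases hrel g with e | e <;> rw [e]
    exact one_dvd r
  by_cases hA1 : A = ⊥
  · -- an `r`-group with classes of size at most `r`
    have htop : ∀ g : G, g ∈ S := fun g => by
      obtain ⟨x, hx, a, ha, rfl⟩ := hdec g
      rw [hA1, mem_bot] at ha
      rw [ha, mul_one]
      exact hx
    have hG : IsPGroup r G := IsPGroup.of_card (n := j) (by
      rw [← hj, eq_top_iff' S |>.2 htop, card_top])
    have h1 := Cfsg.Agent.GenA.VaughanLee.card_commutator_le hG 1 fun x => by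
      rw [pow_one]
      rcases hrel x with e | e
      · rw [eq_top_iff' S |>.2 htop, relIndex_top_right] at e
        rw [e]; exact hr.one_lt.le
      · rw [eq_top_iff' S |>.2 htop, relIndex_top_right] at e
        rw [e]
    have h2 := Nat.le_of_dvd Nat.card_pos hd
    norm_num at h1
    nlinarith [hr.two_le]
  -- `A` is faithful on `S`
  have hfaith : ∀ a ∈ A, a ≠ 1 → (centralizer ({a} : Set G)).relIndex S = r := by
    intro a ha ha1
    refine (hrel a).resolve_left fun he => ?_
    have hS' : S ≤ centralizer ({a} : Set G) := relIndex_eq_one.1 he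
    let B : Subgroup G := A ⊓ centralizer (S : Set G)
    have haB : a ∈ B := ⟨ha, mem_centralizer_iff.2 fun s hs => mem_cent.1 (hS' hs)⟩
    haveI : B.Normal := by
      refine ⟨fun b hb g => ?_⟩
      obtain ⟨x, hx, c, hc, rfl⟩ := hdec g
      have h1 : c * b * c⁻¹ = b := by rw [hAc c hc b hb.1, mul_inv_cancel_right]
      have h2 := mem_centralizer_iff.1 hb.2 x hx
      have : x * c * b * (x * c)⁻¹ = b := by
        calc x * c * b * (x * c)⁻¹ = x * (c * b * c⁻¹) * x⁻¹ := by group
          _ = x * b * x⁻¹ := by rw [h1]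
          _ = b := by rw [h2, mul_inv_cancel_right]
      rw [this]
      exact hb
    have hB : B ≠ ⊥ := fun e => ha1 (mem_bot.1 (e ▸ haB))
    obtain ⟨N, hN, hNB, hNp⟩ := Cfsg.Agent.Hall.Supersolvable.exists_normal_prime_le hss B hB
    have h1 := hprime N hN hNp
    refine R.not_dvd_index ?_
    rw [hA.symm.index_eq_card, ← h1]
    exact card_dvd_of_le (hNB.trans inf_le_left)
  obtain ⟨a₀, ha₀, ha₀1⟩ := A.bot_or_exists_ne_one.resolve_left hA1
  -- `S` is abelian
  set C₀ := centralizer ({a₀} : Set G) ⊓ S with hC₀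
  have hC₀rel : C₀.relIndex S = r := by rw [hC₀, inf_relIndex_right]; exact hfaith a₀ ha₀ ha₀1
  have hrpow : ∀ w ∈ S, w ^ r ^ j = 1 := fun w hw => by
    have := pow_card_eq_one' (x := (⟨w, hw⟩ : S))
    rw [hj] at this
    exact congrArg Subtype.val this
  have hC₀c : ∀ u ∈ C₀, ∀ v ∈ C₀, u * v = v * u := by
    intro u hu v hv
    have hcop : (orderOf a₀).Coprime (orderOf u) :=
      ((hAcop a₀ ha₀).pow_right j).coprime_dvd_right (orderOf_dvd_of_pow_eq_one (hrpow u hu.2))
    have hcom : Commute a₀ u := (mem_cent.1 hu.1).symm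
    have hce := Cfsg.Agent.GroupStructure3.ClassGraph.centralizer_mul_eq hcom hcop
    have hle : centralizer ({a₀ * u} : Set G) ⊓ S ≤ C₀ := by
      rw [hce, hC₀]
      exact inf_le_inf_right S inf_le_left
    rcases hrel (a₀ * u) with e | e
    · exfalso
      rw [relIndex_eq_one, hce, le_inf_iff] at e
      have := hfaith a₀ ha₀ ha₀1
      rw [relIndex_eq_one.2 e.1] at this
      exact hr.ne_one this.symm
    · have e1 := relIndex_mul_relIndex (centralizer ({a₀ * u} : Set G) ⊓ S) C₀ S hle inf_le_right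
      rw [hC₀rel, inf_relIndex_right, e] at e1
      have e2 : (centralizer ({a₀ * u} : Set G) ⊓ S).relIndex C₀ = 1 :=
        Nat.eq_of_mul_eq_mul_right hr.pos (by rw [e1, one_mul])
      have h1 := (relIndex_eq_one.1 e2 hv).1
      rw [hce] at h1
      exact (mem_cent.1 h1.2).symm
  obtain ⟨z, hz, hzl⟩ : ∃ z ∈ S, z⁻¹ * a₀ * z * a₀⁻¹ ∉ C₀ := by
    by_contra hcon
    push Not at hcon
    have := hfaith a₀ ha₀ ha₀1
    rw [relIndex_eq_one.2 fun z hz => mem_cent.2 ?_] at this
    · exact hr.ne_one this.symm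
    have hw := hcon z hz
    have h1 := mem_cent.1 hw.1
    have h2 : z⁻¹ * a₀ * z * a₀⁻¹ = 1 := by
      refine eq_one_of_shift hr (hAcop a₀ ha₀) (hrpow _ hw.2) ?_ (z := z) (by group)
      calc a₀ * (z⁻¹ * a₀ * z * a₀⁻¹) * a₀⁻¹
          = (z⁻¹ * a₀ * z * a₀⁻¹) * a₀ * a₀⁻¹ := by rw [h1]
        _ = _ := by group
    calc z * a₀ = z * ((z⁻¹ * a₀ * z * a₀⁻¹) * a₀) := by rw [h2, one_mul]
      _ = a₀ * z := by group
  set l := z⁻¹ * a₀ * z * a₀⁻¹ with hl
  have hlS : l ∈ S := by
    have : l = z⁻¹ * (a₀ * z * a₀⁻¹) := by rw [hl]; group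
    rw [this]
    exact S.mul_mem (S.inv_mem hz) (hSn.conj_mem z hz a₀)
  have hlc : ∀ w ∈ C₀, l * w = w * l := by
    intro w hw
    have hC₀n : z * w * z⁻¹ ∈ C₀ := by
      haveI : (C₀.subgroupOf S).Normal := normal_of_index_eq_minFac_card (by
        have hj0 : j ≠ 0 := by
          intro h0
          rw [h0, pow_zero] at hj
          have h' := hC₀rel
          rw [eq_bot_of_card_eq S hj, relIndex_bot_right] at h'
          exact hr.ne_one h'.symm
        rw [hj, hr.pow_minFac hj0]
        exact hC₀rel)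
      exact mem_subgroupOf.1 (Subgroup.Normal.conj_mem inferInstance (⟨w, hw.2⟩ : S)
        (mem_subgroupOf.2 hw) (⟨z, hz⟩ : S))
    have h1 := mem_cent.1 hC₀n.1
    have h2 := mem_cent.1 hw.1
    calc l * w = z⁻¹ * a₀ * z * (a₀⁻¹ * w) := by rw [hl]; group
      _ = z⁻¹ * a₀ * z * (w * a₀⁻¹) := by
          rw [show a₀⁻¹ * w = w * a₀⁻¹ from ((Commute.inv_right (h2 : Commute w a₀))).eq.symm]
      _ = z⁻¹ * (a₀ * (z * w * z⁻¹)) * z * a₀⁻¹ := by group
      _ = z⁻¹ * (z * w * z⁻¹ * a₀) * z * a₀⁻¹ := by rw [h1]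
      _ = w * l := by rw [hl]; group
  have hgenS : C₀ ⊔ zpowers l = S := by
    refine le_antisymm (sup_le inf_le_right (zpowers_le.2 hlS)) ?_
    have hKS : C₀ ⊔ zpowers l ≤ S := sup_le inf_le_right (zpowers_le.2 hlS)
    have e := relIndex_mul_relIndex C₀ (C₀ ⊔ zpowers l) S le_sup_left hKS
    rw [hC₀rel] at e
    rcases hr.eq_one_or_self_of_dvd _ (Dvd.intro_left _ e) with h1 | h1
    · exact relIndex_eq_one.1 h1
    · rw [h1] at e
      have h2 : C₀.relIndex (C₀ ⊔ zpowers l) = 1 :=
        Nat.eq_of_mul_eq_mul_right hr.pos (by rw [e, one_mul])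
      exact absurd (relIndex_eq_one.1 h2 (mem_sup_right (mem_zpowers l))) hzl
  have hSc : ∀ a ∈ S, ∀ b ∈ S, a * b = b * a := by
    have h1 : ∀ w : G, w ∈ C₀ ∨ w = l → S ≤ centralizer ({w} : Set G) := by
      intro w hw
      rw [← hgenS]
      refine sup_le (fun u hu => mem_cent.2 ?_) (zpowers_le.2 (mem_cent.2 ?_))
      · rcases hw with hw | rfl
        · exact hC₀c u hu w hw
        · exact (hlc u hu).symm
      · rcases hw with hw | rfl
        · exact hlc w hw
        · rfl
    intro a ha b hb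
    have h2 : C₀ ⊔ zpowers l ≤ centralizer ({a} : Set G) := by
      refine sup_le (fun u hu => mem_cent.2 ?_) (zpowers_le.2 (mem_cent.2 ?_))
      · exact (mem_cent.1 (h1 u (Or.inl hu) ha)).symm
      · exact (mem_cent.1 (h1 l (Or.inr rfl) ha)).symm
    exact (mem_cent.1 (h2 (hgenS.symm ▸ hb))).symm
  -- all the lines coincide
  set L := (commHom S hSc a₀).range with hL
  have hLA : ∀ b ∈ A, b ≠ 1 → (commHom S hSc b).range = L := by
    intro b hb hb1
    by_cases e : centralizer ({b} : Set G) ⊓ S = centralizer ({a₀} : Set G) ⊓ S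
    · by_contra hne
      obtain ⟨v, hv, hvc⟩ : ∃ v ∈ S, v ∉ C₀ := by
        by_contra hcon
        push Not at hcon
        rw [relIndex_eq_one.2 hcon] at hC₀rel
        exact hr.ne_one hC₀rel.symm
      set w := commHom S hSc a₀ ⟨v, hv⟩ with hw
      have hwS : w ∈ S := commHom_range_le S hSc a₀ ⟨_, rfl⟩
      have hw1 : w ≠ 1 := fun he => hvc ⟨by
        have : (⟨v, hv⟩ : S) ∈ (commHom S hSc a₀).ker := he
        rw [commHom_ker] at this
        exact this, hv⟩
      have hmeet : L ⊓ (commHom S hSc b).range = ⊥ := by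
        have h1 : Nat.card (L ⊓ (commHom S hSc b).range : Subgroup G) ∣ r :=
          (card_dvd_of_le inf_le_left).trans (by rw [hL, card_range]; exact hsm a₀)
        rcases hr.eq_one_or_self_of_dvd _ h1 with h2 | h2
        · exact eq_bot_of_card_eq _ h2
        · exfalso
          have h3 : (L ⊓ (commHom S hSc b).range : Subgroup G) = L :=
            eq_of_le_of_card_ge inf_le_left (by rw [h2, hL, card_range, hfaith a₀ ha₀ ha₀1])
          have h4 : (L ⊓ (commHom S hSc b).range : Subgroup G) = (commHom S hSc b).range :=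
            eq_of_le_of_card_ge inf_le_right (by rw [h2, card_range, hfaith b hb hb1])
          exact hne (h4.symm.trans h3)
      have hbw : b * w * b⁻¹ * w⁻¹ = 1 := by
        rw [← mem_bot, ← hmeet]
        refine ⟨L.mul_mem ?_ (L.inv_mem ⟨_, rfl⟩), ⟨⟨w, hwS⟩, rfl⟩⟩
        refine ⟨⟨b * v * b⁻¹, hSn.conj_mem v hv b⟩, ?_⟩
        simp only [hw, commHom_apply]
        have h5 : a₀ * b = b * a₀ := hAc a₀ ha₀ b hb
        have h6 : b⁻¹ * a₀⁻¹ = a₀⁻¹ * b⁻¹ := by rw [← mul_inv_rev, ← mul_inv_rev, h5]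
        calc a₀ * (b * v * b⁻¹) * a₀⁻¹ * (b * v * b⁻¹)⁻¹
            = (a₀ * b) * v * (b⁻¹ * a₀⁻¹) * (b * v * b⁻¹)⁻¹ := by group
          _ = (b * a₀) * v * (a₀⁻¹ * b⁻¹) * (b * v * b⁻¹)⁻¹ := by rw [h5, h6]
          _ = _ := by group
      rw [mul_inv_eq_one] at hbw
      have hwb : w ∈ centralizer ({b} : Set G) ⊓ S :=
        ⟨mem_cent.2 (mul_inv_eq_iff_eq_mul.1 hbw).symm, hwS⟩
      rw [e] at hwb
      refine hw1 (eq_one_of_shift hr (hAcop a₀ ha₀) (hrpow w hwS) ?_ (z := v) ?_)
      · rw [← mem_cent.1 hwb.1, mul_inv_cancel_right]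
      · rw [← hSc w hwS v hv, hw, commHom_apply]; group
    · exact range_eq_of_ne S hSc hsm b a₀ (hfaith b hb hb1) (hfaith a₀ ha₀ ha₀1) e
  have hAL : ∀ b ∈ A, ∀ y ∈ S, b * y * b⁻¹ * y⁻¹ ∈ L := by
    intro b hb y hy
    by_cases hb1 : b = 1
    · rw [hb1]; simp
    · rw [← hLA b hb hb1]
      exact ⟨⟨y, hy⟩, rfl⟩
  haveI hLn : L.Normal := by
    refine ⟨fun w hw g => ?_⟩
    obtain ⟨x, hx, b, hb, rfl⟩ := hdec g
    have hwS : w ∈ S := commHom_range_le S hSc a₀ hw
    have h1 : b * w * b⁻¹ ∈ L := by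
      have := L.mul_mem (hAL b hb w hwS) hw
      rwa [inv_mul_cancel_right] at this
    have h2 : x * (b * w * b⁻¹) * x⁻¹ = b * w * b⁻¹ := by
      rw [hSc x hx _ (commHom_range_le S hSc a₀ h1), mul_inv_cancel_right]
    rw [show x * b * w * (x * b)⁻¹ = x * (b * w * b⁻¹) * x⁻¹ by group, h2]
    exact h1
  have hmk : ∀ b ∈ A, ∀ y ∈ S, QuotientGroup.mk' L b * QuotientGroup.mk' L y =
      QuotientGroup.mk' L y * QuotientGroup.mk' L b := by
    intro b hb y hy
    rw [← commutatorElement_eq_one_iff_mul_comm, ← map_commutatorElement, QuotientGroup.mk'_apply,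
      QuotientGroup.eq_one_iff, commutatorElement_def]
    exact hAL b hb y hy
  have hle : commutator G ≤ L := by
    rw [_root_.commutator_def, commutator_le]
    intro g _ g' _
    rw [← QuotientGroup.eq_one_iff]
    show QuotientGroup.mk' L ⁅g, g'⁆ = 1
    rw [map_commutatorElement, commutatorElement_eq_one_iff_mul_comm]
    obtain ⟨x, hx, a, ha, rfl⟩ := hdec g
    obtain ⟨y, hy, b, hb, rfl⟩ := hdec g'
    simp only [map_mul]
    have e1 : Commute (QuotientGroup.mk' L x) (QuotientGroup.mk' L y) :=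
      (show Commute x y from hSc x hx y hy).map _
    have e2 : Commute (QuotientGroup.mk' L a) (QuotientGroup.mk' L b) :=
      (show Commute a b from hAc a ha b hb).map _
    have e3 : Commute (QuotientGroup.mk' L a) (QuotientGroup.mk' L y) := hmk a ha y hy
    have e4 : Commute (QuotientGroup.mk' L x) (QuotientGroup.mk' L b) := (hmk b hb x hx).symm
    exact ((e1.mul_right e4).mul_left (e3.mul_right e2)).eq
  have h1 := card_dvd_of_le hle
  rw [hL, card_range, hfaith a₀ ha₀ ha₀1] at h1
  have h2 := Nat.le_of_dvd hr.pos (hd.trans h1)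
  nlinarith [hr.two_le]

end Cfsg.Agent.GenA.SquareFree
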